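import Mathlib
import Cfsg.Agent.H17.Basic
import Cfsg.Agent.H14.SubField
import Cfsg.Agent.S4700

/-!
# Simple groups of order 2520: the number of Sylow 7-subgroups
-/

set_option autoImplicit false
set_option linter.unusedSectionVars false
set_option linter.unusedVariables false

namespace Cfsg.Agent.H1.T

open Cfsg Subgroup

universe u

variable {G : Type u} [Group G] [Finite G]

theorem a1_na2520 (h : Nat.card G = 2520) [IsSimpleGroup G] : ¬ IsMulCommutative G := by
  apply H17.not_comm_of_not_prime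
  rw [h]; norm_num

theorem seven [IsSimpleGroup G] (h : Nat.card G = 2520) :
    Nat.card (Sylow 7 G) = 36 ∨ Nat.card (Sylow 7 G) = 120 := by
  haveI : Fact (Nat.Prime 7) := ⟨by norm_num⟩
  have hna := a1_na2520 h
  have hm := H17.card_sylow_mem (G := G) (p := 7) (k := 1) (m := 360) (by rw [h]; norm_num) (by norm_num)
  have hd : (Nat.divisors 360).filter (· % 7 = 1) = {1, 8, 15, 36, 120} := by decide
  rw [hd] at hm
  simp only [Finset.mem_insert, Finset.mem_singleton] at hm
  have h1 : Nat.card (Sylow 7 G) ≠ 1 := H17.card_sylow_ne_one hna (by rw [h]; norm_num)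
  have key : ∀ n : ℕ, Nat.card (Sylow 7 G) = 1 + n * 7 → n ≤ 2 → False := by
    intro n hn hn2
    obtain ⟨P⟩ : Nonempty (Sylow 7 G) := inferInstance
    have hP : Nat.card P = 7 := by
      have := H17.card_sylow_eq P (k := 1) (m := 360) (by rw [h]; norm_num) (by norm_num)
      simpa using this
    have hcore : Nat.card (G ⧸ pPrimeCore 7 G) = 1 ∨ Nat.card (G ⧸ pPrimeCore 7 G) = 2520 := by
      haveI : (pPrimeCore 7 G).Normal := inferInstance
      have e : Nat.card (G ⧸ pPrimeCore 7 G) = (pPrimeCore 7 G).index := rfl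
      rcases (inferInstance : (pPrimeCore 7 G).Normal).eq_bot_or_eq_top with h2 | h2
      · right; rw [e, h2, index_bot, h]
      · left; rw [e, h2, index_top]
    rcases S4700.result (H17.commutator_eq_top hna) 7 P hP n hn with
      ⟨F, _, _, hF, _, ⟨e⟩⟩ | ⟨m, F, _, _, hF, h7, _, _⟩ | ⟨a, b, ha, hb, hab⟩
    · have h3 := H14.SubField.card_PSL2_odd (F := F) (by rw [hF]; decide)
      rw [hF, ← Nat.card_congr e.toEquiv] at h3
      omega
    · have h6 : 2 ^ m = 6 := by omega
      have : m < 3 := by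
        by_contra hc
        have := Nat.pow_le_pow_right (show 0 < 2 by norm_num) (not_lt.1 hc)
        omega
      interval_cases m <;> omega
    · have h2 : n * (b + 1) ≤ 2 * (b + 1) := Nat.mul_le_mul_right _ hn2
      have h3 : 1 * b * 7 ≤ a * b * 7 := by gcongr; exact ha
      have h4 : 0 < b ^ 2 := by positivity
      nlinarith
  rcases hm with h2 | h2 | h2 | h2 | h2
  · exact absurd h2 h1
  · exact (key 1 (by rw [h2]) (by norm_num)).elim
  · exact (key 2 (by rw [h2]) (by norm_num)).elim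
  · exact Or.inl h2
  · exact Or.inr h2

theorem self7 [IsSimpleGroup G] (h : Nat.card G = 2520) (h7 : Nat.card (Sylow 7 G) = 120) (y : G)
    (hy : orderOf y = 7) : Nat.card (centralizer ({y} : Set G)) = 7 ∧
      Nat.card (normalizer (zpowers y : Set G)) = 21 ∧ ¬ IsConj y y⁻¹ := by
  haveI : Fact (Nat.Prime 7) := ⟨by norm_num⟩
  have hna := a1_na2520 h
  have hcz : Nat.card (zpowers y) = 7 := by rw [Nat.card_zpowers, hy]
  have hf : (Nat.card G).factorization 7 = 1 := by
    rw [h]
    have : (2520 : ℕ) = 7 ^ 1 * 360 := by norm_num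
    rw [this, Nat.factorization_mul (by norm_num) (by norm_num), Nat.factorization_pow]
    simp [Nat.Prime.factorization_self (show Nat.Prime 7 by norm_num),
      Nat.factorization_eq_zero_of_not_dvd (show ¬ 7 ∣ 360 by norm_num)]
  let P : Sylow 7 G := Sylow.ofCard (zpowers y) (by rw [hcz, hf, pow_one])
  have hP : (P : Subgroup G) = zpowers y := Sylow.coe_ofCard _ _
  have hN := H17.card_normalizer_mul P
  rw [h7, h, hP] at hN
  have hN21 : Nat.card (normalizer (zpowers y : Set G)) = 21 := by omega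
  have hcent : centralizer ({y} : Set G) = centralizer (zpowers y : Set G) := by
    rw [← Subgroup.centralizer_closure, zpowers_eq_closure]
  have hle : centralizer ({y} : Set G) ≤ normalizer (zpowers y : Set G) := by
    rw [hcent]; exact centralizer_le_normalizer (zpowers y : Set G)
  have hyc : zpowers y ≤ centralizer ({y} : Set G) := by
    rw [zpowers_le]; exact mem_centralizer_singleton_iff.2 rfl
  have hd1 : Nat.card (centralizer ({y} : Set G)) ∣ 21 := by
    rw [← hN21]; exact card_dvd_of_le hle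
  have hd2 : 7 ∣ Nat.card (centralizer ({y} : Set G)) := by
    rw [← hcz]; exact card_dvd_of_le hyc
  have hne : Nat.card (centralizer ({y} : Set G)) ≠ 21 := by
    intro h3
    apply H17.not_normalizer_le_centralizer hna (by rw [h]; norm_num) P
    rw [hP, ← hcent]
    have := Subgroup.eq_of_le_of_card_ge hle (by rw [h3, hN21])
    rw [this]
  have h7c : Nat.card (centralizer ({y} : Set G)) = 7 := by
    obtain ⟨k, hk⟩ := hd2
    rw [hk] at hd1 hne ⊢
    have : k ∣ 3 := Nat.dvd_of_mul_dvd_mul_left (show 0 < 7 by norm_num) hd1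
    rcases (Nat.dvd_prime (by norm_num)).1 this with rfl | rfl
    · norm_num
    · exact absurd rfl hne
  refine ⟨h7c, hN21, ?_⟩
  intro hcj
  rw [isConj_iff] at hcj
  obtain ⟨c, hc⟩ := hcj
  have hcN : c ∈ normalizer (zpowers y : Set G) := by
    have hyi : c⁻¹ * y * c = y⁻¹ := by
      have h8 : c * y⁻¹ * c⁻¹ = y := by
        have h5 : c * y⁻¹ * c⁻¹ = (c * y * c⁻¹)⁻¹ := by group
        rw [h5, hc, inv_inv]
      calc c⁻¹ * y * c = c⁻¹ * (c * y⁻¹ * c⁻¹) * c := by rw [h8]
        _ = y⁻¹ := by group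
    rw [mem_normalizer_iff]
    intro g
    constructor
    · rintro ⟨k, rfl⟩
      refine ⟨-k, ?_⟩
      change y ^ (-k) = c * y ^ k * c⁻¹
      rw [← conj_zpow, hc, inv_zpow', ]
    · rintro ⟨k, hk⟩
      refine ⟨-k, ?_⟩
      change y ^ (-k) = g
      have hg : g = c⁻¹ * y ^ k * c := by
        have : y ^ k = c * g * c⁻¹ := hk
        rw [this]; group
      have h9 : (c⁻¹ * y * c⁻¹⁻¹) ^ k = c⁻¹ * y ^ k * c⁻¹⁻¹ := conj_zpow
      rw [inv_inv, hyi] at h9
      rw [hg, ← h9, inv_zpow']
  have ho : orderOf c ∣ 21 := by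
    rw [← hN21, ← Subgroup.orderOf_mk c hcN]
    exact orderOf_dvd_natCard _
  have h2 : c ^ 21 * y * (c ^ 21)⁻¹ = y⁻¹ := by
    have h3 : ∀ k : ℕ, c ^ (2 * k) * y * (c ^ (2 * k))⁻¹ = y := by
      intro k
      induction k with
      | zero => simp
      | succ k ih =>
        have h4 : c ^ (2 * (k + 1)) * y * (c ^ (2 * (k + 1)))⁻¹
            = c * (c * (c ^ (2 * k) * y * (c ^ (2 * k))⁻¹) * c⁻¹) * c⁻¹ := by
          rw [show 2 * (k + 1) = 2 + 2 * k by ring, pow_add, pow_two]; group
        rw [h4, ih, hc]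
        have h5 : c * y⁻¹ * c⁻¹ = (c * y * c⁻¹)⁻¹ := by group
        rw [h5, hc, inv_inv]
    have h4 : c ^ 21 * y * (c ^ 21)⁻¹ = c * (c ^ (2 * 10) * y * (c ^ (2 * 10))⁻¹) * c⁻¹ := by
      rw [show 21 = 1 + 2 * 10 by norm_num, pow_add, pow_one]; group
    rw [h4, h3, hc]
  rw [orderOf_dvd_iff_pow_eq_one.1 ho] at h2
  have h3 : y = y⁻¹ := by simpa using h2
  have h4 : y ^ 2 = 1 := by rw [pow_two]; nth_rewrite 2 [h3]; exact mul_inv_cancel y
  have h5 := orderOf_dvd_of_pow_eq_one h4
  rw [hy] at h5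
  norm_num at h5

end Cfsg.Agent.H1.T
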