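import Cfsg.Agent.H17.SelfCent

/-! # S0984, piece D2 (helper89) -/

set_option autoImplicit false

namespace Cfsg.Agent.H1.T

open Subgroup Cfsg.Agent

universe u

variable {G : Type u} [Group G] [Finite G]

omit [Finite G] in
theorem centralizer_zp (x : G) : centralizer ((zpowers x : Subgroup G) : Set G) = centralizer ({x} : Set G) := by
  rw [zpowers_eq_closure, centralizer_closure]

/-- full automizer of a group of order 5 -/
theorem conj_sq (x : G) (hx : orderOf x = 5)
    (h4 : (centralizer ((zpowers x : Subgroup G) : Set G)).relIndex (normalizer ((zpowers x : Subgroup G) : Set G)) = 4) :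
    IsConj x (x ^ 2) := by
  set P : Subgroup G := zpowers x with hP
  have hcard : Nat.card P = 5 := by rw [hP, Nat.card_zpowers, hx]
  have hp5 : Nat.Prime 5 := by norm_num
  have : Fact (Nat.card P).Prime := ⟨by rw [hcard]; exact hp5⟩
  have hc : IsCyclic P := isCyclic_of_prime_card rfl
  have hA : Nat.card (MulAut P) = 4 := by
    rw [IsCyclic.card_mulAut, hcard]; rfl
  have hfin : Finite (MulAut P) := Nat.finite_of_card_ne_zero (by rw [hA]; norm_num)
  have h1 : Nat.card P.normalizerMonoidHom.range = 4 := by
    rw [← h4, relIndex, ← normalizerMonoidHom_ker, Subgroup.index_ker]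
  have h2 : P.normalizerMonoidHom.range = ⊤ := by
    apply Subgroup.eq_top_of_card_eq
    rw [h1, hA]
  have hcom : ∀ a b : P, a * b = b * a := by
    intro a b
    obtain ⟨g, hg⟩ := hc.exists_generator
    obtain ⟨m, rfl⟩ := hg a
    obtain ⟨n, rfl⟩ := hg b
    show g ^ m * g ^ n = g ^ n * g ^ m
    rw [← zpow_add, ← zpow_add, add_comm]
  let sq : P →* P :=
    { toFun := fun a => a * a
      map_one' := by simp
      map_mul' := fun a b => by
        calc a * b * (a * b) = a * (b * a) * b := by group
          _ = a * (a * b) * b := by rw [hcom b a]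
          _ = a * a * (b * b) := by group }
  have hinj : Function.Injective sq := by
    rw [injective_iff_map_eq_one]
    intro a ha
    have h3 : a ^ 2 = 1 := by rw [pow_two]; exact ha
    have h5 : a ^ 5 = 1 := by rw [← hcard]; exact pow_card_eq_one'
    calc a = a ^ 5 * (a ^ 2 * a ^ 2)⁻¹ := by group
      _ = 1 := by rw [h3, h5]; simp
  have hbij : Function.Bijective sq := Finite.injective_iff_bijective.1 hinj
  obtain ⟨⟨n, hn⟩, hn2⟩ := (MonoidHom.range_eq_top.1 h2) (MulEquiv.ofBijective sq hbij)
  rw [isConj_iff]
  refine ⟨n, ?_⟩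
  have h6 := congrArg (fun f : MulAut P => ((f ⟨x, mem_zpowers x⟩ : P) : G)) hn2
  have h7 : ((MulEquiv.ofBijective sq hbij ⟨x, mem_zpowers x⟩ : P) : G) = x ^ 2 := by
    rw [pow_two]; rfl
  rw [← h7, ← h6]
  rfl

/-- [D2] -/
theorem n5_cases [IsSimpleGroup G] (h : Nat.card G = 2520)
    (hC7 : ∀ y : G, orderOf y = 7 → Nat.card (centralizer ({y} : Set G)) = 7) (x : G) (hx : orderOf x = 5) :
    (Nat.card (centralizer ({x} : Set G)) = 5 ∧ IsConj x (x ^ 2)) ∨ Nat.card (centralizer ({x} : Set G)) = 10 ∨
      Nat.card (centralizer ({x} : Set G)) = 30 ∨ (Nat.card (centralizer ({x} : Set G)) = 60 ∧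
        Nat.card (normalizer (zpowers x : Set G)) = 120) := by
  have hG : ¬ IsMulCommutative G := H17.not_comm_of_not_prime (by rw [h]; norm_num)
  have hp5 : Fact (Nat.Prime 5) := ⟨by norm_num⟩
  have hd5 : 5 ∣ Nat.card G := by rw [h]; norm_num
  obtain ⟨P0⟩ : Nonempty (Sylow 5 G) := inferInstance
  have hP0 : Nat.card P0 = 5 := by
    have := H17.card_sylow_eq P0 (k := 1) (m := 504) (by rw [h]; norm_num) (by norm_num)
    simpa using this
  let P : Sylow 5 G := H17.sylowOfElt P0 hP0 x hx
  have hPz : (P : Subgroup G) = zpowers x := rfl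
  have hmem := H17.card_sylow_mem (G := G) (p := 5) (k := 1) (m := 504) (by rw [h]; norm_num) (by norm_num)
  have hdiv : (Nat.divisors 504).filter (· % 5 = 1) = {1, 6, 21, 36, 56, 126} := by decide +kernel
  rw [hdiv] at hmem
  simp only [Finset.mem_insert, Finset.mem_singleton] at hmem
  have hN := H17.card_normalizer_mul P
  rw [hPz, h] at hN
  set N := normalizer ((zpowers x : Subgroup G) : Set G) with hNdef
  set C := centralizer ((zpowers x : Subgroup G) : Set G) with hCdef
  have hCx : C = centralizer ({x} : Set G) := centralizer_zp x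
  have hcz : Nat.card (zpowers x) = 5 := by rw [Nat.card_zpowers, hx]
  have hr1 : C.relIndex N ∣ 4 := H17.relIndex_dvd_of_card_prime (by norm_num) (zpowers x) hcz
  have hr2 : C.relIndex N ≠ 1 := by
    have := H17.relIndex_ne_one hG hd5 P
    rwa [hPz] at this
  have hle : C ≤ N := Subgroup.centralizer_le_normalizer _
  have hr3 : C.relIndex N * Nat.card C = Nat.card N := H17.relIndex_mul_card_of_le hle
  rw [← hCx]
  have hr : C.relIndex N = 2 ∨ C.relIndex N = 4 := by
    have h1 : C.relIndex N ≤ 4 := Nat.le_of_dvd (by norm_num) hr1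
    interval_cases hh : C.relIndex N
    · simp at hr1
    · exact absurd rfl hr2
    · exact Or.inl rfl
    · norm_num at hr1
    · exact Or.inr rfl
  rcases hmem with h1 | h1 | h1 | h1 | h1 | h1
  · exact absurd h1 (H17.card_sylow_ne_one hG hd5)
  · exfalso
    have := H17.two_mul_card_dvd_factorial_card_sylow hG hd5
    rw [h1, h] at this
    norm_num [Nat.factorial] at this
  · rw [h1] at hN
    have hN' : Nat.card N = 120 := by omega
    rcases hr with hr | hr
    · right; right; right
      rw [hr] at hr3
      exact ⟨by omega, hN'⟩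
    · right; right; left
      rw [hr] at hr3
      omega
  · exfalso
    rw [h1] at hN
    rcases hr with hr | hr
    · rw [hr] at hr3
      have hC35 : Nat.card C = 35 := by omega
      have hp7 : Fact (Nat.Prime 7) := ⟨by norm_num⟩
      obtain ⟨⟨y, hy⟩, hy7⟩ := exists_prime_orderOf_dvd_card' (G := C) 7 (by rw [hC35]; norm_num)
      have hy7' : orderOf y = 7 := by
        rw [← hy7]; exact (Subgroup.orderOf_mk y hy).symm
      have h3 := hC7 y hy7'
      have hxy : x ∈ centralizer ({y} : Set G) := by
        rw [mem_centralizer_singleton_iff]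
        rw [hCx, mem_centralizer_singleton_iff] at hy
        exact hy.symm
      have h4 := Subgroup.orderOf_dvd_natCard _ hxy
      rw [hx, h3] at h4
      norm_num at h4
    · rw [hr] at hr3
      omega
  · exfalso
    rw [h1] at hN
    rcases hr with hr | hr
    · rw [hr] at hr3
      omega
    · rw [hr] at hr3
      omega
  · rw [h1] at hN
    rcases hr with hr | hr
    · right; left
      rw [hr] at hr3
      omega
    · left
      refine ⟨by rw [hr] at hr3; omega, conj_sq x hx hr⟩

end Cfsg.Agent.H1.T
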