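import Cfsg.Agent.H1T.P41

/-!
# S0984 piece D3 (owner: helper41)
-/

set_option autoImplicit false

namespace Cfsg.Agent.H1.T

open Subgroup

universe u
variable {G : Type u} [Group G] [Finite G]

namespace P41D

omit [Finite G] in
theorem cent_le (x : G) : centralizer ({x} : Set G) ≤ normalizer ((zpowers x : Subgroup G) : Set G) := by
  intro c hc
  rw [Subgroup.mem_centralizer_singleton_iff] at hc
  have h1 : ∀ k : ℤ, c * x ^ k = x ^ k * c := fun k => (Commute.zpow_right (show Commute c x from hc) k)
  rw [Subgroup.mem_normalizer_iff]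
  intro y
  constructor
  · rintro ⟨k, rfl⟩
    refine ⟨k, ?_⟩
    show x ^ k = c * x ^ k * c⁻¹
    rw [h1, mul_inv_cancel_right]
  · rintro ⟨k, hk⟩
    refine ⟨k, ?_⟩
    show x ^ k = y
    have hk' : x ^ k = c * y * c⁻¹ := hk
    have h2 := h1 k
    rw [hk'] at h2
    have h3 : c * (c * y * c⁻¹) = c * y := by rw [h2]; group
    have h4 := mul_left_cancel h3
    rw [hk']
    exact h4

theorem mem_norm {x g : G} (h : g * x * g⁻¹ ∈ zpowers x) :
    g ∈ normalizer ((zpowers x : Subgroup G) : Set G) := by
  apply Subgroup.mem_normalizer_fintype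
  rintro n ⟨k, rfl⟩
  have h1 : g * (fun x_1 => x ^ x_1) k * g⁻¹ = (g * x * g⁻¹) ^ k := by
    rw [conj_zpow]
  rw [h1]
  exact zpow_mem h k

end P41D

theorem case60 [IsSimpleGroup G] (h : Nat.card G = 2520)
    (hC7 : ∀ y : G, orderOf y = 7 → Nat.card (centralizer ({y} : Set G)) = 7)
    (hconj : ∀ a b : G, orderOf a = 2 → orderOf b = 2 → IsConj a b)
    (S : Sylow 2 G) (e : S ≃* DihedralGroup 4) (x : G) (hx : orderOf x = 5)
    (h60 : Nat.card (centralizer ({x} : Set G)) = 60)
    (h120 : Nat.card (normalizer (zpowers x : Set G)) = 120)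
    (hz : ∀ t : G, orderOf t = 2 → x * t = t * x → centralizer ({x} : Set G) ≤ centralizer ({t} : Set G)) :
    ∃ H : Subgroup G, H.index = 7 := by
  classical
  have hp7 : Fact (Nat.Prime 7) := ⟨by norm_num⟩
  have hp5 : Fact (Nat.Prime 5) := ⟨by norm_num⟩
  have hp2 : Fact (Nat.Prime 2) := ⟨Nat.prime_two⟩
  set C := centralizer ({x} : Set G) with hC
  set N := normalizer (zpowers x : Set G) with hN
  have hxC : x ∈ C := by rw [hC, Subgroup.mem_centralizer_singleton_iff]
  have hCN : C ≤ N := P41D.cent_le x
  obtain ⟨T, hTN, hT8⟩ := P41.exists_sylow_le h N (by rw [h120]; norm_num)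
  obtain ⟨f⟩ := P41.equiv_dih S e T
  -- indices
  have hrel : C.relIndex N = 2 := by
    have h1 : Nat.card (C.subgroupOf N) = 60 := by
      rw [Nat.card_congr (Subgroup.subgroupOfEquivOfLe hCN).toEquiv, h60]
    have h2 := (C.subgroupOf N).card_mul_index
    rw [h1, h120] at h2
    show (C.subgroupOf N).index = 2
    omega
  have hTC : ¬ (T : Subgroup G) ≤ C := by
    intro hle
    have h1 := Subgroup.card_dvd_of_le hle
    rw [h60] at h1
    have h2 : Nat.card (T : Subgroup G) = 8 := hT8
    rw [h2] at h1
    omega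
  have hrelT : C.relIndex (T : Subgroup G) = 2 := by
    have h1 : C.relIndex (T : Subgroup G) ≤ C.relIndex N :=
      Subgroup.relIndex_le_of_le_right hTN (by rw [hrel]; norm_num)
    have h2 : (C.subgroupOf (T : Subgroup G)).index ≠ 0 := Subgroup.index_ne_zero_of_finite
    change C.relIndex (T : Subgroup G) ≠ 0 at h2
    have h3 : C.relIndex (T : Subgroup G) ≠ 1 := fun hh => hTC (Subgroup.relIndex_eq_one.1 hh)
    omega
  have hiN : (C.subgroupOf N).index = 2 := hrel
  have hiT : (C.subgroupOf (T : Subgroup G)).index = 2 := hrelT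
  have hcardV : Nat.card (C.subgroupOf (T : Subgroup G)) = 4 := by
    have h1 := (C.subgroupOf (T : Subgroup G)).card_mul_index
    have h2 : Nat.card (T : Subgroup G) = 8 := hT8
    rw [hiT, h2] at h1
    omega
  -- the central involution
  obtain ⟨w0, hw0⟩ : ∃ w0 : T, f w0 = DihedralGroup.r 1 := ⟨f.symm _, f.apply_symm_apply _⟩
  obtain ⟨z, hzdef⟩ : ∃ z : T, z = w0 * w0 := ⟨_, rfl⟩
  have hfz : f z = DihedralGroup.r 1 * DihedralGroup.r 1 := by rw [hzdef, map_mul, hw0]
  have hzC : (z : G) ∈ C := by
    have h1 := Subgroup.sq_mem_of_index_two hiT w0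
    rw [pow_two, ← hzdef] at h1
    exact h1
  have hz1 : z ≠ 1 := by
    intro hh
    rw [hh, map_one] at hfz
    revert hfz
    decide
  have hzz : z * z = 1 := by
    apply f.injective
    rw [map_mul, map_one, hfz]
    decide
  have hzcomm : ∀ g : T, z * g = g * z := by
    intro g
    apply f.injective
    rw [map_mul, map_mul, hfz]
    exact P41.dih_c (f g)
  have hzz' : (z : G) * z = 1 := congrArg Subtype.val hzz
  have hz1' : (z : G) ≠ 1 := fun hh => hz1 (Subtype.ext hh)
  have hzo : orderOf (z : G) = 2 := orderOf_eq_prime (by rw [pow_two]; exact hzz') hz1'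
  have hxcomm : ∀ c ∈ C, x * c = c * x := by
    intro c hc
    rw [hC, Subgroup.mem_centralizer_singleton_iff] at hc
    exact hc.symm
  have hCZ : C ≤ centralizer ({(z : G)} : Set G) := hz z hzo (hxcomm _ hzC)
  have hTZ : (T : Subgroup G) ≤ centralizer ({(z : G)} : Set G) := by
    intro g hg
    rw [Subgroup.mem_centralizer_singleton_iff]
    exact (congrArg Subtype.val (hzcomm ⟨g, hg⟩)).symm
  -- a subgroup containing C and T contains N
  have hgen : ∀ M : Subgroup G, C ≤ M → (T : Subgroup G) ≤ M → N ≤ M := by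
    intro M hCM hTM n hn
    by_cases hnC : n ∈ C
    · exact hCM hnC
    · obtain ⟨τ, hτT, hτC⟩ := SetLike.not_le_iff_exists.1 hTC
      have h1 : (⟨n, hn⟩ : N) * ⟨τ, hTN hτT⟩ ∈ C.subgroupOf N := by
        rw [Subgroup.mul_mem_iff_of_index_two hiN, Subgroup.mem_subgroupOf, Subgroup.mem_subgroupOf]
        exact iff_of_false hnC hτC
      have h2 : n * τ ∈ C := h1
      have h3 := mul_mem (hCM h2) (inv_mem (hTM hτT))
      rwa [mul_inv_cancel_right] at h3
  set Z := centralizer ({(z : G)} : Set G) with hZ
  have hNZ : N ≤ Z := hgen Z hCZ hTZ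
  have h7 : ¬ 7 ∣ Nat.card Z := by
    intro hd
    obtain ⟨y, hy⟩ := exists_prime_orderOf_dvd_card' 7 hd
    have hy' : orderOf (y : G) = 7 := by rw [Subgroup.orderOf_coe]; exact hy
    have h1 : (z : G) ∈ centralizer ({(y : G)} : Set G) := by
      have h2 : (y : G) ∈ centralizer ({(z : G)} : Set G) := y.2
      rw [Subgroup.mem_centralizer_singleton_iff] at h2
      rw [Subgroup.mem_centralizer_singleton_iff]
      exact h2.symm
    have h2 : orderOf (⟨(z : G), h1⟩ : centralizer ({(y : G)} : Set G)) ∣ Nat.card (centralizer ({(y : G)} : Set G)) :=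
      orderOf_dvd_natCard _
    rw [hC7 _ hy', ← Subgroup.orderOf_coe] at h2
    have h3 : orderOf (z : G) ∣ 7 := h2
    rw [hzo] at h3
    omega
  have hd1 : 120 ∣ Nat.card Z := by
    have := Subgroup.card_dvd_of_le hNZ
    rwa [h120] at this
  have hd2 : Nat.card Z ∣ 2520 := h ▸ Subgroup.card_subgroup_dvd_card Z
  have hcases : Nat.card Z = 120 ∨ Nat.card Z = 360 := by
    obtain ⟨k, hk⟩ := hd1
    rw [hk] at hd2 h7
    have h3 : k ∣ 21 := by
      have : 120 * k ∣ 120 * 21 := by simpa using hd2
      exact Nat.dvd_of_mul_dvd_mul_left (by norm_num) this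
    have h4 : k ≤ 21 := Nat.le_of_dvd (by norm_num) h3
    have h5 : k = 1 ∨ k = 3 ∨ k = 7 ∨ k = 21 := by
      interval_cases k <;> omega
    rcases h5 with rfl | rfl | rfl | rfl <;> omega
  rcases hcases with hZ120 | hZ360
  swap
  · refine ⟨Z, ?_⟩
    have h1 := Z.card_mul_index
    rw [hZ360, h] at h1
    omega
  exfalso
  have hNeq : N = Z := Subgroup.eq_of_le_of_card_ge hNZ (by rw [hZ120, h120])
  by_cases hA : ∃ v : T, (v : G) ∈ C ∧ v ≠ 1 ∧ v * v = 1 ∧ v ≠ z
  · obtain ⟨v, hvC, hv1, hvv, hvz⟩ := hA
    have hvv' : (v : G) * v = 1 := congrArg Subtype.val hvv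
    have hv1' : (v : G) ≠ 1 := fun hh => hv1 (Subtype.ext hh)
    have hvo : orderOf (v : G) = 2 := orderOf_eq_prime (by rw [pow_two]; exact hvv') hv1'
    have hCv : C ≤ centralizer ({(v : G)} : Set G) := hz v hvo (hxcomm _ hvC)
    set W := centralizer ({(v : G)} : Set G) with hW
    have hWc : Nat.card W = 120 := by
      have h1 := P41.card_isConj (v : G)
      have h2 := P41.card_isConj (z : G)
      have h3 : IsConj (v : G) (z : G) := hconj _ _ hvo hzo
      have h4 : Nat.card {g : G // IsConj (v : G) g} = Nat.card {g : G // IsConj (z : G) g} := by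
        apply Nat.card_congr
        exact Equiv.subtypeEquivRight (fun g => ⟨fun hh => h3.symm.trans hh, fun hh => h3.trans hh⟩)
      rw [h4] at h1
      rw [← hW] at h1
      rw [← hZ] at h2
      rw [← h2] at h1
      have h5 : 0 < Nat.card {g : G // IsConj (z : G) g} := by
        rw [Nat.card_pos_iff]; exact ⟨⟨⟨z, IsConj.refl _⟩⟩, inferInstance⟩
      rw [← hZ120]
      exact Nat.eq_of_mul_eq_mul_left h5 h1
    have hiW : (C.subgroupOf W).index = 2 := by
      have h1 : Nat.card (C.subgroupOf W) = 60 := by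
        rw [Nat.card_congr (Subgroup.subgroupOfEquivOfLe hCv).toEquiv, h60]
      have h2 := (C.subgroupOf W).card_mul_index
      rw [h1, hWc] at h2
      omega
    have hWN : W ≤ N := by
      intro g hg
      apply P41D.mem_norm
      have hnorm := Subgroup.normal_of_index_eq_two hiW
      have h1 : (⟨g, hg⟩ : W) * ⟨x, hCv hxC⟩ * (⟨g, hg⟩ : W)⁻¹ ∈ C.subgroupOf W :=
        hnorm.conj_mem _ (show (⟨x, hCv hxC⟩ : W) ∈ C.subgroupOf W from hxC) _
      have h2 : g * x * g⁻¹ ∈ C := h1
      -- the cyclic group is normal in C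
      have hKn : ((zpowers x).subgroupOf C).Normal := by
        constructor
        intro n hn c
        obtain ⟨k, hk⟩ := hn
        have hk' : x ^ k = (n : G) := hk
        refine ⟨k, ?_⟩
        show x ^ k = (c : G) * n * (c : G)⁻¹
        rw [← hk']
        have h5 : (c : G) * x ^ k = x ^ k * c :=
          Commute.zpow_right (show Commute (c : G) x from (hxcomm _ c.2).symm) k
        rw [h5, mul_inv_cancel_right]
      have hxle : zpowers x ≤ C := by
        rw [Subgroup.zpowers_le]; exact hxC
      have hKi : ((zpowers x).subgroupOf C).index = 12 := by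
        have h5 : Nat.card ((zpowers x).subgroupOf C) = 5 := by
          rw [Nat.card_congr (Subgroup.subgroupOfEquivOfLe hxle).toEquiv, Nat.card_zpowers, hx]
        have h6 := ((zpowers x).subgroupOf C).card_mul_index
        rw [h5, h60] at h6
        omega
      have h8 := Subgroup.pow_index_mem ((zpowers x).subgroupOf C) (⟨g * x * g⁻¹, h2⟩ : C)
      rw [hKi] at h8
      have h9 : (g * x * g⁻¹) ^ 12 ∈ zpowers x := h8
      have h10 : (g * x * g⁻¹) ^ 5 = 1 := by
        rw [conj_pow, ← hx, pow_orderOf_eq_one]; group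
      have h11 : g * x * g⁻¹ = ((g * x * g⁻¹) ^ 12) ^ 3 := by
        rw [← pow_mul, show 12 * 3 = 5 * 7 + 1 from rfl, pow_succ, pow_mul, h10, one_pow, one_mul]
      rw [h11]
      exact pow_mem h9 3
    have hWeq : W = N := Subgroup.eq_of_le_of_card_ge hWN (by rw [hWc, h120])
    apply hvz
    apply f.injective
    rw [hfz]
    apply P41.dih_b
    · intro g
      obtain ⟨g', rfl⟩ := f.surjective g
      rw [← map_mul, ← map_mul]
      congr 1
      apply Subtype.ext
      have h1 : (g' : G) ∈ W := by rw [hWeq]; exact hTN g'.2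
      rw [hW, Subgroup.mem_centralizer_singleton_iff] at h1
      exact h1.symm
    · intro hh
      exact hv1 ((map_eq_one_iff f f.injective).1 hh)
  · push Not at hA
    -- an element of order 4 in V
    obtain ⟨v, hvC, hv1, hvz⟩ : ∃ v : T, (v : G) ∈ C ∧ v ≠ 1 ∧ v ≠ z := by
      by_contra hcon
      push Not at hcon
      have h1 : Nat.card (C.subgroupOf (T : Subgroup G)) ≤ 2 := by
        have h2 : Function.Injective (fun v : C.subgroupOf (T : Subgroup G) => decide ((v : T) = 1)) := by
          intro a b hab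
          have hab' : decide ((a : T) = 1) = decide ((b : T) = 1) := hab
          by_cases ha : (a : T) = 1
          · have hb : (b : T) = 1 := by
              rw [decide_eq_true ha] at hab'
              exact of_decide_eq_true hab'.symm
            exact Subtype.ext (ha.trans hb.symm)
          · have hb : (b : T) ≠ 1 := by
              rw [decide_eq_false ha] at hab'
              exact of_decide_eq_false hab'.symm
            exact Subtype.ext ((hcon a a.2 ha).trans (hcon b b.2 hb).symm)
        have h3 := Nat.card_le_card_of_injective _ h2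
        simpa using h3
      omega
    have hvv : v * v ≠ 1 := fun hh => hvz (hA v hvC hv1 hh)
    -- elements outside
    have hss : ∀ s : T, (s : G) ∉ C → s * s = 1 := by
      intro s hs
      by_contra hne
      have h1 : f s * f s ≠ 1 := by
        rw [← map_mul]; exact fun hh => hne ((map_eq_one_iff f f.injective).1 hh)
      have h2 : f v * f v ≠ 1 := by
        rw [← map_mul]; exact fun hh => hvv ((map_eq_one_iff f f.injective).1 hh)
      rcases P41.dih_a _ _ h1 h2 with h3 | h3
      · exact hs (by rw [f.injective h3]; exact hvC)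
      · rw [← map_inv] at h3
        exact hs (by rw [f.injective h3]; exact inv_mem hvC)
    have hinv : ∀ s : T, (s : G) ∉ C → ∀ y ∈ zpowers x, (s : G) * y * (s : G)⁻¹ = y⁻¹ := by
      intro s hs
      have hs2 : (s : G) * s = 1 := congrArg Subtype.val (hss s hs)
      have hsi : (s : G)⁻¹ = s := inv_eq_of_mul_eq_one_left hs2
      have hsN : (s : G) ∈ N := hTN s.2
      have h1 : (s : G) * x * (s : G)⁻¹ ∈ zpowers x :=
        (Subgroup.mem_normalizer_iff.1 hsN x).1 (mem_zpowers x)
      have hcx : ∀ a ∈ zpowers x, ∀ b ∈ zpowers x, a * b = b * a := by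
        rintro a ⟨i, rfl⟩ b ⟨j, rfl⟩
        exact (Commute.refl x).zpow_zpow i j
      have h2 : x * ((s : G) * x * (s : G)⁻¹) = 1 := by
        by_contra hu
        -- u is fixed by s
        set u := x * ((s : G) * x * (s : G)⁻¹) with hudef
        have huz : u ∈ zpowers x := mul_mem (mem_zpowers x) h1
        have hsu : (s : G) * u = u * s := by
          have h5 := hcx x (mem_zpowers x) _ h1
          calc (s : G) * u = (s : G) * (((s : G) * x * (s : G)⁻¹) * x) := by rw [hudef, h5]
            _ = ((s : G) * s) * x * (s : G)⁻¹ * x := by group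
            _ = x * s * x := by rw [hs2, one_mul, hsi]
            _ = u * s := by rw [hudef]; group
        have huo : zpowers u = zpowers x := by
          apply Subgroup.eq_of_le_of_card_ge
          · rw [Subgroup.zpowers_le]; exact huz
          · rw [Nat.card_zpowers, Nat.card_zpowers, hx]
            have h6 : orderOf u ∣ 5 := by
              rw [← hx, ← Nat.card_zpowers x]
              have h7 : orderOf (⟨u, huz⟩ : zpowers x) ∣ Nat.card (zpowers x) := orderOf_dvd_natCard _
              rwa [← Subgroup.orderOf_coe] at h7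
            rcases (Nat.dvd_prime hp5.out).1 h6 with h8 | h8
            · exact absurd (orderOf_eq_one_iff.1 h8) hu
            · rw [h8]
        have hxu : x ∈ zpowers u := by rw [huo]; exact mem_zpowers x
        obtain ⟨k, hk⟩ := hxu
        have hk' : u ^ k = x := hk
        apply hs
        rw [hC, Subgroup.mem_centralizer_singleton_iff, ← hk']
        exact Commute.zpow_right (show Commute (s : G) u from hsu) k
      have h3 : (s : G) * x * (s : G)⁻¹ = x⁻¹ := eq_inv_of_mul_eq_one_right h2
      rintro y ⟨k, rfl⟩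
      show (s : G) * x ^ k * (s : G)⁻¹ = (x ^ k)⁻¹
      rw [← conj_zpow, h3, inv_zpow]
    -- counting
    have hcardc : Nat.card {g : G // IsConj (z : G) g} = 21 := by
      have h1 := P41.card_isConj (z : G)
      rw [← hZ, hZ120, h] at h1
      omega
    have hcards : Nat.card {s : T // (s : G) ∉ C} = 4 := by
      have h1 : Nat.card {s : T // (s : G) ∉ C} = Nat.card T - Nat.card {s : T // (s : G) ∈ C} := by
        have := Fintype.ofFinite T
        rw [Nat.card_eq_fintype_card, Nat.card_eq_fintype_card, Nat.card_eq_fintype_card,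
          Fintype.card_subtype_compl]
        rfl
      have h2 : Nat.card {s : T // (s : G) ∈ C} = 4 := hcardV
      rw [h1, h2, hT8]
    let φ : Option (zpowers x × {s : T // (s : G) ∉ C}) → {g : {g : G // IsConj (z : G) g} // (g : G) ∈ Z} :=
      fun o => match o with
        | none => ⟨⟨z, IsConj.refl _⟩, hTZ z.2⟩
        | some p => ⟨⟨(p.1 : G) * ((p.2 : T) : G), by
            apply hconj _ _ hzo
            apply orderOf_eq_prime
            · have h1 := hinv p.2 p.2.2 p.1 p.1.2
              have h2 : ((p.2 : T) : G) * ((p.2 : T) : G) = 1 := congrArg Subtype.val (hss p.2 p.2.2)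
              have h3 : ((p.2 : T) : G) * (p.1 : G) = (p.1 : G)⁻¹ * ((p.2 : T) : G) := by
                rw [← h1]; group
              rw [pow_two]
              calc (p.1 : G) * ((p.2 : T) : G) * ((p.1 : G) * ((p.2 : T) : G)) =
                  (p.1 : G) * (((p.2 : T) : G) * (p.1 : G)) * ((p.2 : T) : G) := by group
                _ = (p.1 : G) * ((p.1 : G)⁻¹ * ((p.2 : T) : G)) * ((p.2 : T) : G) := by rw [h3]
                _ = ((p.2 : T) : G) * ((p.2 : T) : G) := by group
                _ = 1 := h2
            · intro hh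
              apply p.2.2
              have h4 : ((p.2 : T) : G) = (p.1 : G)⁻¹ := eq_inv_of_mul_eq_one_right hh
              rw [h4]
              exact inv_mem ((Subgroup.zpowers_le.2 hxC) p.1.2)⟩,
            mul_mem (hCZ ((Subgroup.zpowers_le.2 hxC) p.1.2)) (hTZ (p.2 : T).2)⟩
    have hφ : Function.Injective φ := by
      have hcross : ∀ p : zpowers x × {s : T // (s : G) ∉ C}, (z : G) ≠ (p.1 : G) * ((p.2 : T) : G) := by
        intro p hh
        apply p.2.2
        have h4 : ((p.2 : T) : G) = (p.1 : G)⁻¹ * z := by rw [hh]; group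
        rw [h4]
        exact mul_mem (inv_mem ((Subgroup.zpowers_le.2 hxC) p.1.2)) hzC
      rintro (_ | p) (_ | p') hpp
      · rfl
      · exact absurd (congrArg (fun t : {g : {g : G // IsConj (z : G) g} // (g : G) ∈ Z} => ((t : {g : G // IsConj (z : G) g}) : G)) hpp) (hcross p')
      · exact absurd (congrArg (fun t : {g : {g : G // IsConj (z : G) g} // (g : G) ∈ Z} => ((t : {g : G // IsConj (z : G) g}) : G)) hpp).symm (hcross p)
      · have h1 : (p.1 : G) * ((p.2 : T) : G) = (p'.1 : G) * ((p'.2 : T) : G) :=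
          congrArg (fun t : {g : {g : G // IsConj (z : G) g} // (g : G) ∈ Z} => ((t : {g : G // IsConj (z : G) g}) : G)) hpp
        have h2 : (p'.1 : G)⁻¹ * (p.1 : G) = ((p'.2 : T) : G) * ((p.2 : T) : G)⁻¹ := by
          calc (p'.1 : G)⁻¹ * (p.1 : G) = (p'.1 : G)⁻¹ * ((p.1 : G) * ((p.2 : T) : G)) * ((p.2 : T) : G)⁻¹ := by group
            _ = _ := by rw [h1]; group
        have h3 : (p'.1 : G)⁻¹ * (p.1 : G) ∈ zpowers x := mul_mem (inv_mem p'.1.2) p.1.2
        have h4 : (p'.1 : G)⁻¹ * (p.1 : G) ∈ (T : Subgroup G) := by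
          rw [h2]; exact mul_mem (p'.2 : T).2 (inv_mem (p.2 : T).2)
        have h5 : (p'.1 : G)⁻¹ * (p.1 : G) = 1 := by
          rw [← orderOf_eq_one_iff]
          have h6 : orderOf ((p'.1 : G)⁻¹ * (p.1 : G)) ∣ 5 := by
            rw [← hx, ← Nat.card_zpowers x]
            have h7 : orderOf (⟨_, h3⟩ : zpowers x) ∣ Nat.card (zpowers x) := orderOf_dvd_natCard _
            rwa [← Subgroup.orderOf_coe] at h7
          have h8 : orderOf ((p'.1 : G)⁻¹ * (p.1 : G)) ∣ 8 := by
            have h7 : orderOf (⟨_, h4⟩ : (T : Subgroup G)) ∣ Nat.card (T : Subgroup G) := orderOf_dvd_natCard _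
            rw [← Subgroup.orderOf_coe] at h7
            have h9 : Nat.card (T : Subgroup G) = 8 := hT8
            rwa [h9] at h7
          exact Nat.dvd_one.1 (by simpa using Nat.dvd_gcd h6 h8)
        have h6 : p.1 = p'.1 := Subtype.ext (inv_mul_eq_one.1 h5).symm
        have h7 : p.2 = p'.2 := by
          rw [h5] at h2
          exact Subtype.ext (Subtype.ext (mul_inv_eq_one.1 h2.symm).symm)
        rw [Prod.ext h6 h7]
    have hcard2 : 21 ≤ Nat.card {g : {g : G // IsConj (z : G) g} // (g : G) ∈ Z} := by
      have h1 := Nat.card_le_card_of_injective φ hφ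
      have h2 : Nat.card (Option (zpowers x × {s : T // (s : G) ∉ C})) = 21 := by
        rw [Finite.card_option, Nat.card_prod, Nat.card_zpowers, hx, hcards]
      omega
    have hall : ∀ g : {g : G // IsConj (z : G) g}, (g : G) ∈ Z := by
      intro g
      by_contra hg
      have h1 : Nat.card {g : {g : G // IsConj (z : G) g} // (g : G) ∈ Z} < Nat.card {g : G // IsConj (z : G) g} := by
        have := Fintype.ofFinite {g : G // IsConj (z : G) g}
        rw [Nat.card_eq_fintype_card, Nat.card_eq_fintype_card]
        exact Fintype.card_subtype_lt hg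
      omega
    have hncl : Subgroup.normalClosure ({(z : G)} : Set G) ≤ Z := by
      rw [Subgroup.normalClosure, Subgroup.closure_le]
      intro g hg
      obtain ⟨a, ha, hag⟩ := Group.mem_conjugatesOfSet_iff.1 hg
      rw [Set.mem_singleton_iff] at ha
      rw [ha] at hag
      exact hall ⟨g, hag⟩
    rcases IsSimpleGroup.eq_bot_or_eq_top_of_normal (Subgroup.normalClosure ({(z : G)} : Set G)) inferInstance with hb | hb
    · apply hz1'
      have h1 : (z : G) ∈ Subgroup.normalClosure ({(z : G)} : Set G) :=
        Subgroup.subset_normalClosure (Set.mem_singleton _)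
      rw [hb] at h1
      exact Subgroup.mem_bot.1 h1
    · rw [hb, top_le_iff] at hncl
      rw [hncl, Subgroup.card_top, h] at hZ120
      omega

end Cfsg.Agent.H1.T
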