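import Cfsg.Agent.H1T.GV
import Cfsg.Agent.CharBase.Column

/-!
S0984, piece E (helper64 for helper1)
-/

set_option autoImplicit false

namespace Cfsg.Agent.H1.T

open Cfsg Subgroup Cfsg.Agent.BR
open Cfsg.Agent.CharBase (oneIrr)
open scoped ComplexConjugate

universe u

variable {G : Type u} [Group G] [Finite G]

theorem sum_dg_sq [Fintype (IrrCharacter G)] : ∑ φ : IrrCharacter G, (dg φ) ^ 2 = Nat.card G := by
  have h := CharBase.sum_sq_degree (G := G)
  have h1 : ((∑ φ : IrrCharacter G, (dg φ) ^ 2 : ℕ) : ℂ) = (Nat.card G : ℂ) := by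
    rw [← h]
    push_cast
    apply Finset.sum_congr rfl
    intro φ _
    rw [dg_eq]
  exact_mod_cast h1

theorem card_irr_le (h : Nat.card G = 2520) (C : Chr G) (x : G) (hx : orderOf x = 5)
    (hcx : Nat.card (centralizer ({x} : Set G)) = 5) (hxx : IsConj x (x ^ 2)) : Nat.card (ConjClasses G) ≤ 9 := by
  classical
  haveI : Fintype (IrrCharacter G) := Fintype.ofFinite _
  rw [← CharBase.card_irr_eq_card_conjClasses, Nat.card_eq_fintype_card, ← Finset.card_univ]
  have hx5 : x ^ 5 = 1 := by rw [← hx, pow_orderOf_eq_one]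
  have hpow : ∀ a b : G, IsConj a b → ∀ n : ℕ, IsConj (a ^ n) (b ^ n) := by
    intro a b hab n
    obtain ⟨c, hc⟩ := isConj_iff.1 hab
    exact isConj_iff.2 ⟨c, by rw [← hc, conj_pow]⟩
  have h4 : IsConj x (x ^ 4) := by
    have h1 := hpow _ _ hxx 2
    rw [← pow_mul] at h1
    exact hxx.trans h1
  have h3 : IsConj x (x ^ 3) := by
    have h1 := hpow _ _ h4 2
    rw [← pow_mul] at h1
    have h2 : x ^ (4 * 2) = x ^ 3 := by
      rw [show 4 * 2 = 5 + 3 from rfl, pow_add, hx5, one_mul]
    rw [h2] at h1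
    exact hxx.trans h1
  have hk : ∀ k : ℕ, k.Coprime (orderOf x) → IsConj x (x ^ k) := by
    intro k hk
    rw [hx] at hk
    rw [← Nat.div_add_mod k 5, pow_add, pow_mul, hx5, one_pow, one_mul]
    have h5 : ¬ 5 ∣ k := fun h5 => by
      have := Nat.Coprime.eq_one_of_dvd hk.symm h5
      omega
    have h6 : k % 5 = 1 ∨ k % 5 = 2 ∨ k % 5 = 3 ∨ k % 5 = 4 := by omega
    rcases h6 with h6 | h6 | h6 | h6 <;> rw [h6]
    · rw [pow_one]
    · exact hxx
    · exact h3
    · exact h4
  have hval : ∀ φ : IrrCharacter G, ∃ v : ℤ, (φ : G → ℂ) x = v ∧ (5 : ℤ) ∣ (v - dg φ) := by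
    intro φ
    have hφ := CharBase.irr_isCharacter φ
    obtain ⟨v, hv⟩ := int_of_rational hφ hk
    refine ⟨v, hv, ?_⟩
    obtain ⟨m, hm⟩ := sum_powers hφ x
    rw [hx] at hm
    have e0 : (φ : G → ℂ) (x ^ 0) = (dg φ : ℂ) := by rw [pow_zero, dg_eq]
    have e1 : (φ : G → ℂ) (x ^ 1) = v := by rw [pow_one, hv]
    have e2 : (φ : G → ℂ) (x ^ 2) = v := val_pow hφ hv (by rw [hx]; decide)
    have e3 : (φ : G → ℂ) (x ^ 3) = v := val_pow hφ hv (by rw [hx]; decide)
    have e4 : (φ : G → ℂ) (x ^ 4) = v := val_pow hφ hv (by rw [hx]; decide)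
    simp only [Finset.sum_range_succ, Finset.sum_range_zero, e0, e1, e2, e3, e4] at hm
    have h7 : (dg φ : ℤ) + 4 * v = 5 * m := by
      have : (((dg φ : ℤ) + 4 * v : ℤ) : ℂ) = ((5 * m : ℤ) : ℂ) := by
        push_cast
        push_cast at hm
        linear_combination hm
      exact_mod_cast this
    exact ⟨v - m, by linarith⟩
  choose v hv hvd using hval
  -- column orthogonality
  have hcol : ∑ φ : IrrCharacter G, (v φ) ^ 2 = 5 := by
    have h1 := CharBase.column_orthogonality_of_isConj (IsConj.refl x)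
    rw [hcx] at h1
    have h2 : ((∑ φ : IrrCharacter G, (v φ) ^ 2 : ℤ) : ℂ) = ((5 : ℤ) : ℂ) := by
      push_cast
      push_cast at h1
      rw [← h1]
      apply Finset.sum_congr rfl
      intro φ _
      rw [hv, map_intCast]
      ring
    exact_mod_cast h2
  have hN1 : (Finset.univ.filter (fun φ : IrrCharacter G => v φ ≠ 0)).card ≤ 5 := by
    have h1 : ((Finset.univ.filter (fun φ : IrrCharacter G => v φ ≠ 0)).card : ℤ) ≤ ∑ φ : IrrCharacter G, (v φ) ^ 2 := by
      calc ((Finset.univ.filter (fun φ : IrrCharacter G => v φ ≠ 0)).card : ℤ) =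
          ∑ φ ∈ Finset.univ.filter (fun φ : IrrCharacter G => v φ ≠ 0), (1 : ℤ) := by simp
        _ ≤ ∑ φ ∈ Finset.univ.filter (fun φ : IrrCharacter G => v φ ≠ 0), (v φ) ^ 2 := by
          apply Finset.sum_le_sum
          intro φ hφ
          have h2 : v φ ≠ 0 := (Finset.mem_filter.1 hφ).2
          have h3 : 0 < (v φ) ^ 2 := by positivity
          linarith
        _ ≤ _ := Finset.sum_le_sum_of_subset_of_nonneg (Finset.filter_subset _ _) (fun φ _ _ => sq_nonneg _)
    rw [hcol] at h1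
    exact_mod_cast h1
  have hE : (Finset.univ.filter (fun φ : IrrCharacter G => 35 ∣ dg φ)).card ≤ 1 := by
    rw [Finset.card_le_one]
    intro a ha b hb
    by_contra hab
    have ha' : 35 ∣ dg a := (Finset.mem_filter.1 ha).2
    have hb' : 35 ∣ dg b := (Finset.mem_filter.1 hb).2
    have haθ : a ≠ C.θ := by
      intro h1; rw [h1, C.dθ] at ha'; omega
    have hbθ : b ≠ C.θ := by
      intro h1; rw [h1, C.dθ] at hb'; omega
    have h1 : ∑ φ ∈ ({a, b, C.θ} : Finset (IrrCharacter G)), (dg φ) ^ 2 ≤ 2520 := by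
      rw [← h, ← sum_dg_sq (G := G)]
      exact Finset.sum_le_sum_of_subset (Finset.subset_univ _)
    rw [Finset.sum_insert (by simp [hab, haθ]), Finset.sum_insert (by simp [hbθ]), Finset.sum_singleton, C.dθ] at h1
    have h2 : 35 ≤ dg a := Nat.le_of_dvd (dg_pos a) ha'
    have h3 : 35 ≤ dg b := Nat.le_of_dvd (dg_pos b) hb'
    nlinarith
  have hsub : (Finset.univ : Finset (IrrCharacter G)) ⊆ Finset.univ.filter (fun φ : IrrCharacter G => v φ ≠ 0) ∪
      (({C.θ, C.ψ, C.ψ'} : Finset (IrrCharacter G)) ∪ Finset.univ.filter (fun φ : IrrCharacter G => 35 ∣ dg φ)) := by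
    intro φ _
    rw [Finset.mem_union]
    by_cases h0 : v φ = 0
    · right
      have hd := hvd φ
      rw [h0] at hd
      have hd5 : 5 ∣ dg φ := by omega
      rw [Finset.mem_union]
      by_cases h1 : φ = C.θ ∨ φ = C.ψ ∨ φ = C.ψ'
      · left
        rcases h1 with h1 | h1 | h1 <;> simp [h1]
      · right
        push Not at h1
        rw [Finset.mem_filter]
        refine ⟨Finset.mem_univ _, ?_⟩
        have h2 : φ ≠ oneIrr G := by
          intro h3
          have h4 : dg (oneIrr G) = 1 := by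
            have h5 := dg_eq (oneIrr G)
            have h6 : ((oneIrr G : IrrCharacter G) : G → ℂ) 1 = 1 := rfl
            rw [h6] at h5
            exact_mod_cast h5.symm
          rw [h3, h4] at hd5
          omega
        have h3 : φ ≠ C.χ := by
          intro h4
          rw [h4, C.dχ] at hd5
          omega
        have h7 := C.out φ h2 h3 h1.1 h1.2.1 h1.2.2
        omega
    · left
      rw [Finset.mem_filter]
      exact ⟨Finset.mem_univ _, h0⟩
  have hc := Finset.card_le_card hsub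
  have hc1 := Finset.card_union_le (Finset.univ.filter (fun φ : IrrCharacter G => v φ ≠ 0))
    (({C.θ, C.ψ, C.ψ'} : Finset (IrrCharacter G)) ∪ Finset.univ.filter (fun φ : IrrCharacter G => 35 ∣ dg φ))
  have hc2 := Finset.card_union_le ({C.θ, C.ψ, C.ψ'} : Finset (IrrCharacter G))
    (Finset.univ.filter (fun φ : IrrCharacter G => 35 ∣ dg φ))
  have hc3 : ({C.θ, C.ψ, C.ψ'} : Finset (IrrCharacter G)).card ≤ 3 := Finset.card_le_three
  omega

end Cfsg.Agent.H1.T
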