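import Cfsg.Agent.H17.SelfCent
import Mathlib.GroupTheory.SpecificGroups.Dihedral

/-! # S0984, piece F1 (helper89) -/

set_option autoImplicit false

namespace Cfsg.Agent.H1.T

open Subgroup Cfsg.Agent

universe u

variable {G : Type u} [Group G]

theorem orderOf_eq_of_isConj {a b : G} (h : IsConj a b) : orderOf a = orderOf b := by
  obtain ⟨c, rfl⟩ := isConj_iff.1 h
  exact (orderOf_injective (MulAut.conj c).toMonoidHom (MulAut.conj c).injective a).symm

theorem d4_center : ∀ z : DihedralGroup 4, (∀ t : DihedralGroup 4, z * t = t * z) → z * z = 1 := by decide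

/-- the order of the centralizer of an element of order 4 -/
theorem three_dvd [Finite G] (h : Nat.card G = 2520) (S : Sylow 2 G) (e : S ≃* DihedralGroup 4)
    (h5 : ∀ x : G, orderOf x = 5 → Nat.card (centralizer ({x} : Set G)) = 5)
    (h7 : ∀ y : G, orderOf y = 7 → Nat.card (centralizer ({y} : Set G)) = 7 ∧ ¬ IsConj y y⁻¹)
    (w : G) (hw : orderOf w = 4) (h4 : 4 < Nat.card (centralizer ({w} : Set G))) :
    3 ∣ Nat.card (centralizer ({w} : Set G)) := by
  set C := centralizer ({w} : Set G) with hC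
  have hp2 : Fact (Nat.Prime 2) := ⟨Nat.prime_two⟩
  have hp5 : Fact (Nat.Prime 5) := ⟨by norm_num⟩
  have hp7 : Fact (Nat.Prime 7) := ⟨by norm_num⟩
  have hno : ∀ p : ℕ, ∀ _ : Fact p.Prime, (∀ x : G, orderOf x = p → Nat.card (centralizer ({x} : Set G)) = p) →
      ¬ 4 ∣ p → ¬ p ∣ Nat.card C := by
    intro p hp hx hp4 hd
    obtain ⟨⟨x, hxC⟩, hxo⟩ := exists_prime_orderOf_dvd_card' (G := C) p hd
    have hxo' : orderOf x = p := by rw [← hxo]; exact (Subgroup.orderOf_mk x hxC).symm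
    have h1 : w ∈ centralizer ({x} : Set G) := by
      rw [mem_centralizer_singleton_iff]
      rw [hC, mem_centralizer_singleton_iff] at hxC
      exact hxC.symm
    have h2 := Subgroup.orderOf_dvd_natCard _ h1
    rw [hw, hx x hxo'] at h2
    exact hp4 h2
  have n5 := hno 5 hp5 h5 (by norm_num)
  have n7 := hno 7 hp7 (fun y hy => (h7 y hy).1) (by norm_num)
  by_contra n3
  have hdvd : Nat.card C ∣ 2520 := h ▸ Subgroup.card_subgroup_dvd_card C
  have c3 : Nat.Coprime (Nat.card C) 9 :=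
    Nat.Coprime.pow_right 2 ((Nat.Prime.coprime_iff_not_dvd Nat.prime_three).2 n3).symm
  have c5 : Nat.Coprime (Nat.card C) 5 := ((Nat.Prime.coprime_iff_not_dvd (by norm_num)).2 n5).symm
  have c7 : Nat.Coprime (Nat.card C) 7 := ((Nat.Prime.coprime_iff_not_dvd (by norm_num)).2 n7).symm
  have hc : Nat.Coprime (Nat.card C) (9 * 5 * 7) := (c3.mul_right c5).mul_right c7
  have h8 : Nat.card C ∣ 8 := by
    apply hc.dvd_of_dvd_mul_right
    have : 8 * (9 * 5 * 7) = 2520 := by norm_num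
    rw [this]; exact hdvd
  have hC8 : Nat.card C = 8 := by
    have h9 := Nat.le_of_dvd (by norm_num) h8
    interval_cases hh : Nat.card C
    all_goals first | rfl | (exfalso; revert h8; norm_num)
  have hcard : Nat.card C = 2 ^ (Nat.card G).factorization 2 := by
    rw [hC8, h]
    have h1 : (2520 : ℕ) = 2 ^ 3 * 315 := by norm_num
    rw [h1, Nat.factorization_mul (by norm_num) (by norm_num), Nat.factorization_pow]
    have h2 : (315 : ℕ).factorization 2 = 0 := Nat.factorization_eq_zero_of_not_dvd (by norm_num)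
    simp [h2, Nat.Prime.factorization_self Nat.prime_two]
  let T : Sylow 2 G := Sylow.ofCard C hcard
  obtain ⟨g, hg⟩ := MulAction.exists_smul_eq G T S
  have hTS : ∀ s ∈ (S : Subgroup G), g⁻¹ * s * g ∈ C := by
    intro s hs
    have h1 : g⁻¹ * s * g⁻¹⁻¹ ∈ ((g⁻¹ • S : Sylow 2 G) : Subgroup G) :=
      Subgroup.smul_mem_pointwise_smul s (MulAut.conj g⁻¹) _ hs
    have h2 : g⁻¹ • S = T := by rw [← hg, inv_smul_smul]
    rw [h2, inv_inv] at h1
    exact h1
  have hwS : g * w * g⁻¹ ∈ (S : Subgroup G) := by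
    rw [← hg]
    exact Subgroup.smul_mem_pointwise_smul w (MulAut.conj g) _
      (show w ∈ C by rw [hC, mem_centralizer_singleton_iff])
  have hcom : ∀ s : S, (⟨g * w * g⁻¹, hwS⟩ : S) * s = s * ⟨g * w * g⁻¹, hwS⟩ := by
    rintro ⟨s, hs⟩
    apply Subtype.ext
    show g * w * g⁻¹ * s = s * (g * w * g⁻¹)
    have h1 := hTS s hs
    rw [hC, mem_centralizer_singleton_iff] at h1
    calc g * w * g⁻¹ * s = g * (w * (g⁻¹ * s * g)) * g⁻¹ := by group
      _ = g * (g⁻¹ * s * g * w) * g⁻¹ := by rw [h1]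
      _ = s * (g * w * g⁻¹) := by group
  have h1 := d4_center (e ⟨g * w * g⁻¹, hwS⟩) (by
    intro t
    obtain ⟨s, rfl⟩ := e.surjective t
    rw [← map_mul, hcom s, map_mul])
  rw [← map_mul, ← map_one e] at h1
  have h2 := congrArg Subtype.val (e.injective h1)
  have h3 : g * w * g⁻¹ * (g * w * g⁻¹) = 1 := h2
  have h6 : w ^ 2 = 1 := by
    rw [pow_two]
    calc w * w = g⁻¹ * (g * w * g⁻¹ * (g * w * g⁻¹)) * g := by group
      _ = 1 := by rw [h3]; group
  have := orderOf_dvd_of_pow_eq_one h6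
  rw [hw] at this
  norm_num at this

theorem ten [Finite G] (hk : Nat.card (ConjClasses G) ≤ 9) (x y w u b : G) (hx : orderOf x = 5)
    (hy : orderOf y = 7) (hyy : ¬ IsConj y y⁻¹) (hw : orderOf w = 4) (hu : orderOf u = 3) (hwu : w * u = u * w)
    (hb : orderOf b = 9 ∨ (orderOf b = 3 ∧ ¬ IsConj u b)) : False := by
  have c1 : Commute w u := hwu
  have o2 : orderOf (w ^ 2) = 2 := by
    rw [orderOf_pow, hw]
    norm_num
  have o12 : orderOf (w * u) = 12 := by
    rw [c1.orderOf_mul_eq_mul_orderOf_of_coprime (by rw [hw, hu]; norm_num), hw, hu]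
  have o6 : orderOf (w ^ 2 * u) = 6 := by
    rw [(c1.pow_left 2).orderOf_mul_eq_mul_orderOf_of_coprime (by rw [o2, hu]; norm_num), o2, hu]
  let f : Fin 10 → G := ![1, x, y, y⁻¹, w ^ 2, w, u, w ^ 2 * u, w * u, b]
  let o : Fin 10 → ℕ := ![1, 5, 7, 7, 2, 4, 3, 6, 12, orderOf b]
  have ho : ∀ i, orderOf (f i) = o i := by
    intro i
    fin_cases i
    · exact orderOf_one
    · exact hx
    · exact hy
    · show orderOf y⁻¹ = 7
      rw [orderOf_inv, hy]
    · exact o2
    · exact hw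
    · exact hu
    · exact o6
    · exact o12
    · rfl
  have key : ∀ i j : Fin 10, IsConj (f i) (f j) → i = j := by
    intro i j hij
    have h1 := orderOf_eq_of_isConj hij
    rw [ho, ho] at h1
    rcases hb with hb | ⟨hb, hub⟩
    · have h2 : ∀ i j : Fin 10, (![1, 5, 7, 7, 2, 4, 3, 6, 12, 9] : Fin 10 → ℕ) i =
        (![1, 5, 7, 7, 2, 4, 3, 6, 12, 9] : Fin 10 → ℕ) j → i = j ∨ (i = 2 ∧ j = 3) ∨ (i = 3 ∧ j = 2) := by
        decide
      simp only [o, hb] at h1
      rcases h2 i j h1 with h3 | ⟨rfl, rfl⟩ | ⟨rfl, rfl⟩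
      · exact h3
      · exact absurd hij hyy
      · exact absurd hij.symm hyy
    · have h2 : ∀ i j : Fin 10, (![1, 5, 7, 7, 2, 4, 3, 6, 12, 3] : Fin 10 → ℕ) i =
        (![1, 5, 7, 7, 2, 4, 3, 6, 12, 3] : Fin 10 → ℕ) j → i = j ∨ (i = 2 ∧ j = 3) ∨ (i = 3 ∧ j = 2) ∨
          (i = 6 ∧ j = 9) ∨ (i = 9 ∧ j = 6) := by
        decide
      simp only [o, hb] at h1
      rcases h2 i j h1 with h3 | ⟨rfl, rfl⟩ | ⟨rfl, rfl⟩ | ⟨rfl, rfl⟩ | ⟨rfl, rfl⟩
      · exact h3
      · exact absurd hij hyy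
      · exact absurd hij.symm hyy
      · exact absurd hij hub
      · exact absurd hij.symm hub
  have hinj : Function.Injective (fun i => ConjClasses.mk (f i)) := by
    intro i j hij
    exact key i j (ConjClasses.mk_eq_mk_iff_isConj.1 hij)
  have h1 := Nat.card_le_card_of_injective _ hinj
  rw [Nat.card_fin] at h1
  omega

/-- [F1] -/
theorem classes9 [Finite G] (h : Nat.card G = 2520) (S : Sylow 2 G) (e : S ≃* DihedralGroup 4)
    (h5 : ∀ x : G, orderOf x = 5 → Nat.card (centralizer ({x} : Set G)) = 5)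
    (h7 : ∀ y : G, orderOf y = 7 → Nat.card (centralizer ({y} : Set G)) = 7 ∧ ¬ IsConj y y⁻¹)
    (hk : Nat.card (ConjClasses G) ≤ 9) (w : G) (hw : orderOf w = 4)
    (h4 : 4 < Nat.card (centralizer ({w} : Set G))) :
    (∀ g : G, orderOf g ≠ 9) ∧ ∀ a b : G, orderOf a = 3 → orderOf b = 3 → IsConj a b := by
  have hp3 : Fact (Nat.Prime 3) := ⟨Nat.prime_three⟩
  have hp5 : Fact (Nat.Prime 5) := ⟨by norm_num⟩
  have hp7 : Fact (Nat.Prime 7) := ⟨by norm_num⟩
  have h3 := three_dvd h S e h5 h7 w hw h4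
  obtain ⟨⟨u, huC⟩, huo⟩ := exists_prime_orderOf_dvd_card' (G := centralizer ({w} : Set G)) 3 h3
  have hu : orderOf u = 3 := by rw [← huo]; exact (Subgroup.orderOf_mk u huC).symm
  have hwu : w * u = u * w := (mem_centralizer_singleton_iff.1 huC).symm
  obtain ⟨x, hx⟩ := exists_prime_orderOf_dvd_card' (G := G) 5 (by rw [h]; norm_num)
  obtain ⟨y, hy⟩ := exists_prime_orderOf_dvd_card' (G := G) 7 (by rw [h]; norm_num)
  have hcon : ∀ b : G, orderOf b = 3 → IsConj u b := by
    intro b hb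
    by_contra hn
    exact ten hk x y w u b hx hy (h7 y hy).2 hw hu hwu (Or.inr ⟨hb, hn⟩)
  exact ⟨fun g hg => ten hk x y w u g hx hy (h7 y hy).2 hw hu hwu (Or.inl hg),
    fun a b ha hb => (hcon a ha).symm.trans (hcon b hb)⟩

end Cfsg.Agent.H1.T
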