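import Cfsg.Agent.H1T.P41

/-!
# S0984 piece F2 (owner: helper41)
-/

set_option autoImplicit false

namespace Cfsg.Agent.H1.T

open Subgroup

universe u
variable {G : Type u} [Group G] [Finite G]

theorem no_fusion3 (h : Nat.card G = 2520) (S : Sylow 2 G) (e : S ≃* DihedralGroup 4)
    (h9 : ∀ g : G, orderOf g ≠ 9)
    (h3 : ∀ a b : G, orderOf a = 3 → orderOf b = 3 → IsConj a b) : False := by
  classical
  have : Fact (Nat.Prime 3) := ⟨Nat.prime_three⟩
  have : Fact (Nat.Prime 2) := ⟨Nat.prime_two⟩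
  obtain ⟨P⟩ : Nonempty (Sylow 3 G) := inferInstance
  have hPc : Nat.card P = 9 := by
    rw [P.card_eq_multiplicity, h, P41.fact2520_3]; norm_num
  have hcomm : ∀ a ∈ (P : Subgroup G), ∀ b ∈ (P : Subgroup G), a * b = b * a := by
    have h1 := IsPGroup.isMulCommutative_of_card_eq_prime_sq (G := P) (p := 3) (by rw [hPc]; norm_num)
    intro a ha b hb
    exact congrArg Subtype.val (h1.is_comm.comm ⟨a, ha⟩ ⟨b, hb⟩)
  have hord : ∀ a ∈ (P : Subgroup G), a ≠ 1 → orderOf a = 3 := by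
    intro a ha ha1
    have h1 : orderOf a ∣ 9 := by
      have h2 : orderOf (⟨a, ha⟩ : P) ∣ Nat.card P := orderOf_dvd_natCard _
      rw [hPc] at h2
      rwa [← Subgroup.orderOf_coe] at h2
    have h2 : orderOf a ∣ 3 ^ 2 := by simpa using h1
    obtain ⟨k, hk, hk2⟩ := (Nat.dvd_prime_pow Nat.prime_three).1 h2
    interval_cases k
    · exact absurd (orderOf_eq_one_iff.1 (by simpa using hk2)) ha1
    · simpa using hk2
    · exact absurd (by simpa using hk2) (h9 a)
  set N := Subgroup.normalizer ((P : Subgroup G) : Set G) with hN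
  -- an element
  obtain ⟨a, haP, ha1⟩ : ∃ a ∈ (P : Subgroup G), a ≠ 1 := by
    by_contra hcon
    push Not at hcon
    have h1 : (P : Subgroup G) = ⊥ := by
      rw [eq_bot_iff]; intro x hx; exact Subgroup.mem_bot.2 (hcon x hx)
    have h2 : Nat.card (P : Subgroup G) = 1 := by rw [h1]; simp
    have h3 : Nat.card (P : Subgroup G) = 9 := hPc
    omega
  -- transitivity
  have htr : ∀ b ∈ (P : Subgroup G), b ≠ 1 → ∃ n ∈ N, n * a * n⁻¹ = b := by
    intro b hb hb1
    obtain ⟨g, hg⟩ := isConj_iff.1 (h3 a b (hord a haP ha1) (hord b hb hb1))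
    have : IsMulCommutative (P : Subgroup G) := ⟨⟨fun x y => Subtype.ext (hcomm x x.2 y y.2)⟩⟩
    obtain ⟨n, hn, hn2⟩ := Sylow.conj_eq_normalizer_conj_of_mem P a g⁻¹ haP (by
      rw [inv_inv, hg]; exact hb)
    refine ⟨n⁻¹, inv_mem hn, ?_⟩
    rw [inv_inv, ← hn2, inv_inv, hg]
  -- count
  have hcount : Nat.card N = 8 * Nat.card (centralizer ({(⟨a, Subgroup.le_normalizer haP⟩ : N)} : Set N)) := by
    rw [← P41.card_isConj (⟨a, Subgroup.le_normalizer haP⟩ : N)]
    congr 1
    have h1 : Nat.card {g : N // IsConj (⟨a, Subgroup.le_normalizer haP⟩ : N) g} =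
        Nat.card {b : P // b ≠ 1} := by
      apply Nat.card_congr
      refine Equiv.ofBijective (fun g => ⟨⟨(g : N), ?_⟩, ?_⟩) ⟨?_, ?_⟩
      · obtain ⟨c, hc⟩ := isConj_iff.1 g.2
        rw [← hc]
        exact (Subgroup.mem_normalizer_iff.1 c.2 a).1 haP
      · intro hh
        have h4 : ((g : N) : G) = 1 := congrArg (fun t : P => (t : G)) hh
        have h5 : (g : N) = 1 := Subtype.ext h4
        have h6 := g.2
        rw [h5, isConj_one_left] at h6
        exact ha1 (congrArg Subtype.val h6)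
      · intro g g' hgg
        have h4 : ((g : N) : G) = ((g' : N) : G) := congrArg (fun t : {b : P // b ≠ 1} => ((t : P) : G)) hgg
        exact Subtype.ext (Subtype.ext h4)
      · rintro ⟨⟨b, hb⟩, hb1⟩
        obtain ⟨n, hn, hn2⟩ := htr b hb (fun hh => hb1 (Subtype.ext hh))
        refine ⟨⟨⟨b, Subgroup.le_normalizer hb⟩, isConj_iff.2 ⟨⟨n, hn⟩, Subtype.ext hn2⟩⟩, rfl⟩
    rw [h1]
    have h2 : Nat.card {b : P // b ≠ 1} = Nat.card P - 1 := by
      have := Fintype.ofFinite P
      rw [Nat.card_eq_fintype_card, Nat.card_eq_fintype_card, Fintype.card_subtype_compl,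
        Fintype.card_subtype_eq]
      rfl
    rw [h2, hPc]
  have hodd : ¬ 2 ∣ Nat.card (centralizer ({(⟨a, Subgroup.le_normalizer haP⟩ : N)} : Set N)) := by
    intro hh
    have h1 : Nat.card N ∣ 2520 := h ▸ Subgroup.card_subgroup_dvd_card N
    rw [hcount] at h1
    obtain ⟨c, hc⟩ := hh
    rw [hc] at h1
    have h2 : 16 ∣ 2520 := Dvd.dvd.trans ⟨c, by ring⟩ h1
    omega
  -- centralizers of arbitrary elements
  have hodd2 : ∀ n ∈ N, orderOf n = 2 → n * a ≠ a * n := by
    intro n hn hn2 hna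
    apply hodd
    have h1 : (⟨n, hn⟩ : N) ∈ centralizer ({(⟨a, Subgroup.le_normalizer haP⟩ : N)} : Set N) := by
      rw [Subgroup.mem_centralizer_singleton_iff]
      exact Subtype.ext hna
    have h2 : orderOf (⟨⟨n, hn⟩, h1⟩ : centralizer ({(⟨a, Subgroup.le_normalizer haP⟩ : N)} : Set N)) = 2 := by
      rw [← Subgroup.orderOf_coe, ← Subgroup.orderOf_coe]; exact hn2
    rw [← h2]
    exact orderOf_dvd_natCard _
  have hinv : ∀ t ∈ N, t ≠ 1 → t * t = 1 → t * a * t⁻¹ = a⁻¹ := by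
    intro t ht ht1 htt
    have hord2 : orderOf t = 2 := orderOf_eq_prime (by rw [pow_two]; exact htt) ht1
    have hti : t⁻¹ = t := inv_eq_of_mul_eq_one_left htt
    have h1 : t * a * t⁻¹ ∈ (P : Subgroup G) := (Subgroup.mem_normalizer_iff.1 ht a).1 haP
    by_contra hne
    have hb1 : a * (t * a * t⁻¹) ≠ 1 := fun hh => hne (eq_inv_of_mul_eq_one_right hh)
    have hbP : a * (t * a * t⁻¹) ∈ (P : Subgroup G) := mul_mem haP h1
    obtain ⟨n, hn, hn2⟩ := htr _ hbP hb1
    -- t commutes with b, so n⁻¹ t n commutes with a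
    have h5 : t * (a * (t * a * t⁻¹)) = (a * (t * a * t⁻¹)) * t := by
      have h6 := hcomm a haP _ h1
      calc t * (a * (t * a * t⁻¹)) = t * ((t * a * t⁻¹) * a) := by rw [h6]
        _ = (t * t) * a * t⁻¹ * a := by group
        _ = a * t * a := by rw [htt, one_mul, hti]
        _ = a * (t * a * t⁻¹) * t := by group
    apply hodd2 (n⁻¹ * t * n) (mul_mem (mul_mem (inv_mem hn) ht) hn)
    · have h7 : n⁻¹ * t * n = MulAut.conj n⁻¹ t := by rw [MulAut.conj_apply, inv_inv]
      rw [h7]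
      exact (orderOf_injective (MulAut.conj n⁻¹).toMonoidHom (MulAut.conj n⁻¹).injective t).trans hord2
    · rw [← hn2] at h5
      calc n⁻¹ * t * n * a = n⁻¹ * (t * (n * a * n⁻¹)) * n := by group
        _ = n⁻¹ * ((n * a * n⁻¹) * t) * n := by rw [h5]
        _ = a * (n⁻¹ * t * n) := by group
  -- Sylow 2-subgroup of N
  obtain ⟨T, hTN, hT8⟩ := P41.exists_sylow_le h N (by rw [hcount]; exact dvd_mul_right _ _)
  obtain ⟨f⟩ := P41.equiv_dih S e T
  obtain ⟨t, s, ht1, hs1, hts, htt, hss, hcts⟩ := P41.dih_d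
  have key : ∀ c : DihedralGroup 4, c ≠ 1 → c * c = 1 →
      ((f.symm c : T) : G) * a * ((f.symm c : T) : G)⁻¹ = a⁻¹ := by
    intro c hc1 hcc
    apply hinv
    · exact hTN (f.symm c).2
    · intro hh
      apply hc1
      have : f.symm c = 1 := Subtype.ext hh
      exact (map_eq_one_iff f.symm f.symm.injective).1 this
    · rw [← Subgroup.coe_mul, ← map_mul, hcc, map_one]; rfl
  have hts1 : t * s ≠ 1 := by
    intro hh
    apply hts
    have : t = s⁻¹ := eq_inv_of_mul_eq_one_left hh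
    rw [this]
    exact inv_eq_of_mul_eq_one_left hss
  have htsts : (t * s) * (t * s) = 1 := by
    calc (t * s) * (t * s) = (t * s) * (s * t) := by rw [hcts]
      _ = t * (s * s) * t := by group
      _ = 1 := by rw [hss, mul_one, htt]
  have k1 := key t ht1 htt
  have k2 := key s hs1 hss
  have k3 := key (t * s) hts1 htsts
  have k4 : ((f.symm (t * s) : T) : G) = ((f.symm t : T) : G) * ((f.symm s : T) : G) := by
    rw [map_mul]; rfl
  rw [k4] at k3
  have k5 : (((f.symm t : T) : G) * ((f.symm s : T) : G)) * a *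
      (((f.symm t : T) : G) * ((f.symm s : T) : G))⁻¹ = a := by
    calc _ = ((f.symm t : T) : G) * (((f.symm s : T) : G) * a * ((f.symm s : T) : G)⁻¹) *
        ((f.symm t : T) : G)⁻¹ := by group
      _ = ((f.symm t : T) : G) * a⁻¹ * ((f.symm t : T) : G)⁻¹ := by rw [k2]
      _ = (((f.symm t : T) : G) * a * ((f.symm t : T) : G)⁻¹)⁻¹ := by group
      _ = a := by rw [k1, inv_inv]
  rw [k5] at k3
  have k6 : a * a = 1 := by
    nth_rewrite 1 [k3]
    exact inv_mul_cancel a
  have k7 := hord a haP ha1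
  have k8 : orderOf a ∣ 2 := orderOf_dvd_of_pow_eq_one (by rw [pow_two]; exact k6)
  rw [k7] at k8
  omega

end Cfsg.Agent.H1.T
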