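import Cfsg.Agent.H17.Basic

/-! S0984, piece A2: a simple group of order 2520 with 36 Sylow 7-subgroups has an involution whose centralizer
has order at most 4. -/

set_option autoImplicit false

namespace Cfsg.Agent.H1.T

open Subgroup Cfsg.Agent.H17

universe u

namespace A2X

variable {G : Type u} [Group G] [Finite G]

/-- an element of order `p` normalising the Sylow subgroup `Q` lies in it -/
theorem mem_of_norm {p : ℕ} [Fact p.Prime] (Q : Sylow p G) {y : G} (hy : orderOf y = p)
    (hN : y ∈ normalizer ((Q : Subgroup G) : Set G)) : y ∈ (Q : Subgroup G) := by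
  have hP : IsPGroup p (zpowers y) := by
    apply IsPGroup.of_card (n := 1)
    rw [Nat.card_zpowers, hy, pow_one]
  have h := hP.inf_normalizer_sylow Q
  have h2 := h.le ⟨mem_zpowers y, hN⟩
  exact h2.2

theorem eq_zpowers {p : ℕ} [Fact p.Prime] (Q : Subgroup G) (hQ : Nat.card Q = p) {y : G} (hy : orderOf y = p)
    (hyQ : y ∈ Q) : Q = zpowers y := by
  symm
  apply Subgroup.eq_of_le_of_card_ge
  · rwa [zpowers_le]
  · rw [Nat.card_zpowers, hy, hQ]

theorem norm_of_conj {H : Subgroup G} {g : G} (h : ∀ x ∈ H, g * x * g⁻¹ ∈ H) :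
    g ∈ normalizer (H : Set G) := by
  have h1 : H.map (MulAut.conj g).toMonoidHom = H := by
    apply Subgroup.eq_of_le_of_card_ge
    · rintro _ ⟨x, hx, rfl⟩
      exact h x hx
    · rw [Subgroup.card_map_of_injective (MulAut.conj g).injective]
  rw [Subgroup.mem_normalizer_iff]
  intro x
  constructor
  · exact h x
  · intro hx
    rw [← h1] at hx
    obtain ⟨y, hy, e⟩ := hx
    have e' : g * y * g⁻¹ = g * x * g⁻¹ := e
    have : y = x := by
      have := mul_right_cancel e'
      exact mul_left_cancel this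
    rwa [← this]

end A2X

open A2X

theorem n36 {G : Type u} [Group G] [Finite G] [IsSimpleGroup G] (h : Nat.card G = 2520)
    (h7 : Nat.card (Sylow 7 G) = 36) : ∃ t : G, Nat.card (centralizer ({t} : Set G)) ≤ 4 := by
  have f7 : Fact (Nat.Prime 7) := ⟨by norm_num⟩
  have f5 : Fact (Nat.Prime 5) := ⟨by norm_num⟩
  have f2 : Fact (Nat.Prime 2) := ⟨by norm_num⟩
  obtain ⟨P⟩ : Nonempty (Sylow 7 G) := inferInstance
  have hG : ¬ IsMulCommutative G := by
    intro hc
    have h1 : normalizer ((P : Subgroup G) : Set G) = ⊤ := by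
      rw [eq_top_iff]
      intro g _
      apply norm_of_conj
      intro x hx
      have : g * x = x * g := hc.is_comm.comm g x
      rw [this, mul_inv_cancel_right]
      exact hx
    have h2 : Nat.card (Sylow 7 G) = (normalizer ((P : Subgroup G) : Set G)).index := P.card_eq_index_normalizer
    rw [h1, index_top] at h2
    omega
  -- the normalizer
  have hN : Nat.card (normalizer ((P : Subgroup G) : Set G)) = 70 := by
    have := card_normalizer_mul P
    rw [h7, h] at this
    omega
  have hP7 : Nat.card (P : Subgroup G) = 7 := by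
    have := card_sylow_eq P (k := 1) (m := 360) (by rw [h]; norm_num) (by norm_num)
    simpa using this
  have hCN : centralizer ((P : Subgroup G) : Set G) ≤ normalizer ((P : Subgroup G) : Set G) :=
    centralizer_le_normalizer _
  have hrel : (centralizer ((P : Subgroup G) : Set G)).relIndex (normalizer ((P : Subgroup G) : Set G)) = 2 := by
    have h1 := relIndex_dvd_of_card_prime (by norm_num : Nat.Prime 7) (P : Subgroup G) hP7
    have h2 := relIndex_ne_one hG (by rw [h]; norm_num) P
    have h3 := relIndex_mul_card_of_le hCN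
    rw [hN] at h3
    have h4 : (centralizer ((P : Subgroup G) : Set G)).relIndex (normalizer ((P : Subgroup G) : Set G)) ∣ 70 :=
      Dvd.intro _ h3
    have h5 := Nat.dvd_gcd h1 h4
    norm_num at h5
    have h6 := (Nat.dvd_prime Nat.prime_two).1 h5
    rcases h6 with h6 | h6
    · exact absurd h6 h2
    · exact h6
  have hD : Nat.card (centralizer ((P : Subgroup G) : Set G)) = 35 := by
    have h3 := relIndex_mul_card_of_le hCN
    rw [hN, hrel] at h3
    omega
  set N := normalizer ((P : Subgroup G) : Set G) with hNdef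
  set D := centralizer ((P : Subgroup G) : Set G) with hDdef
  have hDconj : ∀ n ∈ N, ∀ d ∈ D, n * d * n⁻¹ ∈ D := by
    intro n hn d hd
    rw [hDdef, mem_centralizer_iff]
    intro p hp
    have h1 : n⁻¹ * p * n ∈ (P : Subgroup G) := by
      have := (Subgroup.mem_normalizer_iff''.1 hn p).1 hp
      exact this
    have h2 := mem_centralizer_iff.1 hd _ h1
    have h3 : n * (n⁻¹ * p * n * d) * n⁻¹ = n * (d * (n⁻¹ * p * n)) * n⁻¹ := by rw [h2]
    calc p * (n * d * n⁻¹) = n * (n⁻¹ * p * n * d) * n⁻¹ := by group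
      _ = n * (d * (n⁻¹ * p * n)) * n⁻¹ := h3
      _ = n * d * n⁻¹ * p := by group
  -- D is cyclic
  obtain ⟨x, hxo⟩ := exists_prime_orderOf_dvd_card' (G := D) 5 (by rw [hD]; norm_num)
  obtain ⟨y, hyo⟩ := exists_prime_orderOf_dvd_card' (G := (P : Subgroup G)) 7 (by rw [hP7])
  have hxo' : orderOf (x : G) = 5 := by rw [Subgroup.orderOf_coe, hxo]
  have hyo' : orderOf (y : G) = 7 := by rw [Subgroup.orderOf_coe, hyo]
  have hxy : Commute (x : G) (y : G) := (mem_centralizer_iff.1 x.2 _ y.2).symm
  have hyD : (y : G) ∈ D := by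
    rw [hDdef, mem_centralizer_iff]
    intro p hp
    have hPz := eq_zpowers (P : Subgroup G) hP7 hyo' y.2
    have hp' : p ∈ (P : Subgroup G) := hp
    rw [hPz] at hp'
    obtain ⟨k, rfl⟩ := mem_zpowers_iff.1 hp'
    exact ((Commute.refl (y : G)).zpow_left k)
  have hzo : orderOf ((x : G) * y) = 35 := by
    rw [hxy.orderOf_mul_eq_mul_orderOf_of_coprime (by rw [hxo', hyo']; norm_num), hxo', hyo']
  have hDz : D = zpowers ((x : G) * y) := by
    symm
    apply Subgroup.eq_of_le_of_card_ge
    · rw [zpowers_le]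
      exact D.mul_mem x.2 hyD
    · rw [Nat.card_zpowers, hzo, hD]
  have hDcomm : ∀ a ∈ D, ∀ b ∈ D, a * b = b * a := by
    intro a ha b hb
    rw [hDz] at ha hb
    obtain ⟨k, rfl⟩ := mem_zpowers_iff.1 ha
    obtain ⟨l, rfl⟩ := mem_zpowers_iff.1 hb
    rw [← zpow_add, ← zpow_add, add_comm]
  -- Q
  have hpx : IsPGroup 5 (zpowers (x : G)) := by
    apply IsPGroup.of_card (n := 1)
    rw [Nat.card_zpowers, hxo', pow_one]
  obtain ⟨Q, hQ⟩ := hpx.exists_le_sylow
  have hxQ : (x : G) ∈ (Q : Subgroup G) := hQ (mem_zpowers _)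
  have hQ5 : Nat.card (Q : Subgroup G) = 5 := by
    have := card_sylow_eq Q (k := 1) (m := 504) (by rw [h]; norm_num) (by norm_num)
    simpa using this
  have hQz := eq_zpowers (Q : Subgroup G) hQ5 hxo' hxQ
  have hNQ : N ≤ normalizer ((Q : Subgroup G) : Set G) := by
    intro n hn
    have h1 : n * x * n⁻¹ ∈ D := hDconj n hn x x.2
    have h2 : n * x * n⁻¹ ∈ (Q : Subgroup G) := by
      apply mem_of_norm Q
      · have : n * (x : G) * n⁻¹ = MulAut.conj n (x : G) := rfl
        rw [this, MulEquiv.orderOf_eq, hxo']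
      · apply norm_of_conj
        intro q hq
        have hq' := hq
        rw [hQz] at hq'
        obtain ⟨k, rfl⟩ := mem_zpowers_iff.1 hq'
        have h3 : Commute (n * x * n⁻¹) ((x : G) ^ k) := (show Commute (n * x * n⁻¹) (x : G) from hDcomm _ h1 _ x.2).zpow_right k
        rw [h3.eq, mul_inv_cancel_right]
        exact hq
    apply norm_of_conj
    intro q hq
    rw [hQz] at hq
    obtain ⟨k, rfl⟩ := mem_zpowers_iff.1 hq
    rw [← conj_zpow]
    exact zpow_mem h2 k
  have hNQ' : normalizer ((Q : Subgroup G) : Set G) = N := by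
    have hidx : N.index = 36 := by
      rw [← h7]
      exact P.card_eq_index_normalizer.symm
    have h1 : (normalizer ((Q : Subgroup G) : Set G)).index ∣ 36 := hidx ▸ index_dvd_of_le hNQ
    have h2 : Nat.card (Sylow 5 G) = (normalizer ((Q : Subgroup G) : Set G)).index := Q.card_eq_index_normalizer
    have h3 : Nat.card (Sylow 5 G) % 5 = 1 := card_sylow_mod
    have h4 := card_sylow_ne_one (p := 5) hG (by rw [h]; norm_num)
    have h5 := two_mul_card_dvd_factorial_card_sylow (p := 5) hG (by rw [h]; norm_num)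
    rw [← h2] at h1
    have h6 : Nat.card (Sylow 5 G) = 36 := by
      have hle := Nat.le_of_dvd (by norm_num) h1
      generalize Nat.card (Sylow 5 G) = m at *
      rw [h] at h5
      interval_cases m <;> first | rfl | (exfalso; revert h1 h3 h4; decide) | (exfalso; revert h5; decide)
    symm
    apply Subgroup.eq_of_le_of_card_ge hNQ
    have e1 := card_mul_index (normalizer ((Q : Subgroup G) : Set G))
    have e2 := card_mul_index N
    rw [← h2, h6, h] at e1
    rw [hidx, h] at e2
    omega
  -- the involution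
  obtain ⟨t, hto⟩ := exists_prime_orderOf_dvd_card' (G := N) 2 (by rw [hN]; norm_num)
  have hto' : orderOf (t : G) = 2 := by rw [Subgroup.orderOf_coe, hto]
  obtain ⟨t, htN⟩ := t
  change orderOf t = 2 at hto'
  clear hto
  have htD : t ∉ D := by
    intro ht
    have : orderOf (⟨t, ht⟩ : D) ∣ Nat.card D := orderOf_dvd_natCard _
    rw [hD, ← Subgroup.orderOf_coe] at this
    change orderOf t ∣ 35 at this
    rw [hto'] at this
    omega
  have key : ∀ d ∈ D, d ≠ 1 → ∃ y : G, y ∈ zpowers d ∧ (∀ z ∈ N, orderOf z = orderOf y → z ∈ zpowers y) ∧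
      (∀ g : G, g * y * g⁻¹ ∈ zpowers y → g ∈ N) ∧ t * y ≠ y * t := by
    intro d hd hd1
    have hod : orderOf d ∣ 35 := by
      have : orderOf (⟨d, hd⟩ : D) ∣ Nat.card D := orderOf_dvd_natCard _
      rw [hD, ← Subgroup.orderOf_coe] at this
      exact this
    have hod1 : orderOf d ≠ 1 := by rwa [Ne, orderOf_eq_one_iff]
    have hcase : 5 ∣ orderOf d ∨ 7 ∣ orderOf d := by
      have hle := Nat.le_of_dvd (by norm_num) hod
      generalize orderOf d = m at *
      interval_cases m <;> first | (left; decide) | (right; decide) | (exfalso; revert hod hod1; decide)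
    have gen : ∀ (p : ℕ) [Fact p.Prime] (R : Sylow p G), Nat.card (R : Subgroup G) = p →
        normalizer ((R : Subgroup G) : Set G) = N → t ∉ centralizer ((R : Subgroup G) : Set G) → p ∣ orderOf d →
        ∃ y : G, y ∈ zpowers d ∧ (∀ z ∈ N, orderOf z = orderOf y → z ∈ zpowers y) ∧
        (∀ g : G, g * y * g⁻¹ ∈ zpowers y → g ∈ N) ∧ t * y ≠ y * t := by
      intro p hp R hR hRN htR hpd
      have ho : orderOf (d ^ (orderOf d / p)) = p := by
        obtain ⟨m, hm⟩ := hpd
        have hm0 : m ≠ 0 := by
          rintro rfl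
          rw [mul_zero] at hm
          exact (orderOf_pos d).ne' hm
        have hp0 : 0 < p := hp.out.pos
        rw [orderOf_pow_of_dvd]
        · rw [hm, Nat.mul_div_cancel_left _ hp0, Nat.mul_div_cancel _ (Nat.pos_of_ne_zero hm0)]
        · rw [hm, Nat.mul_div_cancel_left _ hp0]; exact hm0
        · rw [hm, Nat.mul_div_cancel_left _ hp0]; exact Dvd.intro_left p rfl
      generalize hy : d ^ (orderOf d / p) = y at ho
      have hyd : y ∈ zpowers d := by rw [← hy]; exact pow_mem (mem_zpowers d) _
      have hyN : y ∈ N := by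
        rw [← hy]; exact pow_mem (hCN hd) _
      have hyR : y ∈ (R : Subgroup G) := mem_of_norm R ho (by rw [hRN]; exact hyN)
      have hRz := eq_zpowers (R : Subgroup G) hR ho hyR
      refine ⟨y, hyd, ?_, ?_, ?_⟩
      · intro z hz hzo
        rw [← hRz]
        exact mem_of_norm R (hzo.trans ho) (by rw [hRN]; exact hz)
      · intro g hg
        rw [← hRN]
        apply norm_of_conj
        intro r hr
        rw [hRz] at hr ⊢
        obtain ⟨k, rfl⟩ := mem_zpowers_iff.1 hr
        rw [← conj_zpow]
        exact zpow_mem hg k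
      · intro hty
        apply htR
        rw [mem_centralizer_iff]
        intro r hr
        have hr' : r ∈ (R : Subgroup G) := hr
        rw [hRz] at hr'
        obtain ⟨k, rfl⟩ := mem_zpowers_iff.1 hr'
        exact ((show Commute y t from hty.symm).zpow_left k).eq
    rcases hcase with h5 | h7'
    · refine gen 5 Q hQ5 hNQ' ?_ h5
      intro htQ
      apply not_normalizer_le_centralizer hG (by rw [h]; norm_num) Q
      rw [hNQ']
      have hDQ : D ≤ centralizer ((Q : Subgroup G) : Set G) := by
        intro a ha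
        rw [mem_centralizer_iff]
        intro q hq
        have hq' : q ∈ (Q : Subgroup G) := hq
        rw [hQz] at hq'
        obtain ⟨k, rfl⟩ := mem_zpowers_iff.1 hq'
        exact ((show Commute (x : G) a from hDcomm _ x.2 _ ha).zpow_left k).eq
      have h35 : 35 ∣ Nat.card ((centralizer ((Q : Subgroup G) : Set G) ⊓ N : Subgroup G)) := by
        rw [← hD]
        exact Subgroup.card_dvd_of_le (le_inf hDQ hCN)
      have h2 : 2 ∣ Nat.card ((centralizer ((Q : Subgroup G) : Set G) ⊓ N : Subgroup G)) := by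
        have h3 : orderOf (⟨t, htQ, htN⟩ : (centralizer ((Q : Subgroup G) : Set G) ⊓ N : Subgroup G)) ∣ _ :=
          orderOf_dvd_natCard _
        rw [← Subgroup.orderOf_coe] at h3
        change orderOf t ∣ _ at h3
        rwa [hto'] at h3
      have h70 : 70 ∣ Nat.card ((centralizer ((Q : Subgroup G) : Set G) ⊓ N : Subgroup G)) := by
        have := Nat.Coprime.mul_dvd_of_dvd_of_dvd (by norm_num : Nat.Coprime 35 2) h35 h2
        exact this
      have heq : (centralizer ((Q : Subgroup G) : Set G) ⊓ N : Subgroup G) = N := by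
        apply Subgroup.eq_of_le_of_card_ge inf_le_right
        rw [hN]
        exact Nat.le_of_dvd Nat.card_pos h70
      exact inf_eq_right.1 heq
    · exact gen 7 P hP7 rfl htD h7'
  -- claim 1
  have c1 : ∀ d ∈ D, t * d = d * t → d = 1 := by
    intro d hd htd
    by_contra hd1
    obtain ⟨y, hy, -, -, hty⟩ := key d hd hd1
    apply hty
    obtain ⟨k, rfl⟩ := mem_zpowers_iff.1 hy
    exact (show Commute t d from htd).zpow_right k
  -- claim 2
  have c2 : ∀ g : G, g ∉ N → ∀ d ∈ D, g⁻¹ * d * g ∈ N → d = 1 := by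
    intro g hg d hd hgd
    by_contra hd1
    obtain ⟨y, hy, h1, h2, -⟩ := key d hd hd1
    apply hg
    have h3 : g⁻¹ * y * g ∈ N := by
      obtain ⟨k, rfl⟩ := mem_zpowers_iff.1 hy
      have : g⁻¹ * d ^ k * g = (g⁻¹ * d * g) ^ k := by
        have := conj_zpow (a := g⁻¹) (b := d) (i := k)
        rw [inv_inv] at this
        exact this.symm
      rw [this]
      exact zpow_mem hgd k
    have h4 : orderOf (g⁻¹ * y * g) = orderOf y := by
      have : g⁻¹ * y * g = MulAut.conj g⁻¹ y := by
        rw [MulAut.conj_apply, inv_inv]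
      rw [this, MulEquiv.orderOf_eq]
    have h5 := h1 _ h3 h4
    have h6 := h2 g⁻¹ (by rwa [inv_inv])
    rw [← inv_inv g]
    exact N.inv_mem h6
  -- claim 3
  have hidx2 : (D.subgroupOf N).index = 2 := hrel
  have c3 : ∀ n ∈ N, t * n = n * t → n = 1 ∨ n = t := by
    intro n hn htn
    by_cases hnD : n ∈ D
    · exact Or.inl (c1 n hnD htn)
    · right
      have h1 : (⟨t, htN⟩ : N) * ⟨n, hn⟩ ∈ D.subgroupOf N := by
        rw [Subgroup.mul_mem_iff_of_index_two hidx2, Subgroup.mem_subgroupOf, Subgroup.mem_subgroupOf]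
        constructor
        · intro h; exact absurd h htD
        · intro h; exact absurd h hnD
      have h2 : t * n ∈ D := h1
      have h3 : t * (t * n) = t * n * t := by
        rw [mul_assoc t n t, ← htn]
      have h4 := c1 _ h2 h3
      have htt : t * t = 1 := by
        have := pow_orderOf_eq_one t
        rwa [hto', pow_two] at this
      have h5 : t⁻¹ = t := inv_eq_of_mul_eq_one_left htt
      rw [← h5]
      exact (inv_eq_of_mul_eq_one_right h4).symm
  -- claim 4
  have c4 : ∀ a b : G, t * a = a * t → t * b = b * t → a ∉ N → b ∉ N → a⁻¹ * b ∈ N := by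
    intro a b hta htb ha hb
    classical
    have hcard : Nat.card (G ⧸ N) = 36 := by
      have : N.index = 36 := by
        rw [← h7]
        exact P.card_eq_index_normalizer.symm
      exact this
    have hfin : Finite (G ⧸ N) := inferInstance
    let f : D → {q : G ⧸ N // q ≠ ((1 : G) : G ⧸ N)} := fun d => ⟨(((d : G) * a : G) : G ⧸ N), by
      intro h
      rw [QuotientGroup.eq, mul_one] at h
      apply ha
      have h1 := N.inv_mem h
      rw [inv_inv] at h1
      exact (N.mul_mem_cancel_left (hCN d.2)).1 h1⟩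
    have hf : Function.Injective f := by
      intro d e hde
      have h1 := congrArg Subtype.val hde
      change (((d : G) * a : G) : G ⧸ N) = (((e : G) * a : G) : G ⧸ N) at h1
      rw [QuotientGroup.eq] at h1
      have h2 : a⁻¹ * ((d : G)⁻¹ * e) * a ∈ N := by
        have e1 : a⁻¹ * ((d : G)⁻¹ * e) * a = ((d : G) * a)⁻¹ * (e * a) := by group
        rw [e1]; exact h1
      have h3 := c2 a ha _ (D.mul_mem (D.inv_mem d.2) e.2) h2
      exact Subtype.ext (inv_mul_eq_one.1 h3)
    have hcard2 : Nat.card {q : G ⧸ N // q ≠ ((1 : G) : G ⧸ N)} = 35 := by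
      have h1 : Nat.card {q : G ⧸ N // q ≠ ((1 : G) : G ⧸ N)} = Set.ncard ({((1 : G) : G ⧸ N)}ᶜ : Set (G ⧸ N)) := rfl
      rw [h1, Set.ncard_compl, Set.ncard_singleton, hcard]
    have hbij : Function.Bijective f := by
      rw [Nat.bijective_iff_injective_and_card]
      exact ⟨hf, by rw [hcard2]; exact hD⟩
    obtain ⟨d, hd⟩ := hbij.2 ⟨((b : G) : G ⧸ N), by
      intro h
      rw [QuotientGroup.eq, mul_one] at h
      apply hb
      have h1 := N.inv_mem h
      rwa [inv_inv] at h1⟩
    have h1 := congrArg Subtype.val hd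
    change (((d : G) * a : G) : G ⧸ N) = ((b : G) : G ⧸ N) at h1
    rw [QuotientGroup.eq] at h1
    -- h1 : (d * a)⁻¹ * b ∈ N
    have h2 : a⁻¹ * ((d : G)⁻¹ * (t * d * t⁻¹)) * a ∈ N := by
      have e1 : a⁻¹ * ((d : G)⁻¹ * (t * d * t⁻¹)) * a =
          (((d : G) * a)⁻¹ * b) * (b⁻¹ * t * b) * (((d : G) * a)⁻¹ * b)⁻¹ * (a⁻¹ * t⁻¹ * a) := by group
      have e2 : b⁻¹ * t * b = t := by
        rw [mul_assoc, htb, inv_mul_cancel_left]
      have e3 : a⁻¹ * t⁻¹ * a = t⁻¹ := by
        have : a⁻¹ * t * a = t := by rw [mul_assoc, hta, inv_mul_cancel_left]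
        calc a⁻¹ * t⁻¹ * a = (a⁻¹ * t * a)⁻¹ := by group
          _ = t⁻¹ := by rw [this]
      rw [e1, e2, e3]
      exact N.mul_mem (N.mul_mem (N.mul_mem h1 htN) (N.inv_mem h1)) (N.inv_mem htN)
    have h3 : (d : G)⁻¹ * (t * d * t⁻¹) ∈ D := D.mul_mem (D.inv_mem d.2) (hDconj t htN d d.2)
    have h4 := c2 a ha _ h3 h2
    rw [inv_mul_eq_one, eq_mul_inv_iff_mul_eq] at h4
    have h5 := c1 d d.2 h4.symm
    rw [h5, one_mul] at h1
    exact h1
  -- conclusion
  refine ⟨t, ?_⟩
  have hmem : ∀ g : G, g ∈ centralizer ({t} : Set G) ↔ t * g = g * t := by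
    intro g
    rw [mem_centralizer_singleton_iff]
    exact eq_comm
  by_cases hex : ∃ c : G, t * c = c * t ∧ c ∉ N
  · obtain ⟨c, hc, hcN⟩ := hex
    have hsub : ((centralizer ({t} : Set G) : Subgroup G) : Set G) ⊆ {1, t, c, c * t} := by
      intro g hg
      have hg' := (hmem g).1 hg
      by_cases hgN : g ∈ N
      · rcases c3 g hgN hg' with h | h
        · simp [h]
        · simp [h]
      · have h1 := c4 c g hc hg' hcN hgN
        have h2 : t * (c⁻¹ * g) = c⁻¹ * g * t := by
          have : t * c⁻¹ = c⁻¹ * t := (show Commute t c from hc).inv_right.eq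
          rw [← mul_assoc, this, mul_assoc, hg', mul_assoc]
        rcases c3 _ h1 h2 with h | h
        · rw [inv_mul_eq_one] at h
          simp [h]
        · rw [inv_mul_eq_iff_eq_mul] at h
          simp [h]
    calc Nat.card (centralizer ({t} : Set G)) = ((centralizer ({t} : Set G) : Subgroup G) : Set G).ncard := rfl
      _ ≤ ({1, t, c, c * t} : Set G).ncard := Set.ncard_le_ncard hsub (Set.toFinite _)
      _ ≤ 4 := by
        have e1 := Set.ncard_insert_le (1 : G) {t, c, c * t}
        have e2 := Set.ncard_insert_le t {c, c * t}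
        have e3 := Set.ncard_insert_le c {c * t}
        have e4 := Set.ncard_singleton (c * t)
        omega
  · push Not at hex
    have hsub : ((centralizer ({t} : Set G) : Subgroup G) : Set G) ⊆ {1, t} := by
      intro g hg
      have hg' := (hmem g).1 hg
      rcases c3 g (hex g hg') hg' with h | h
      · simp [h]
      · simp [h]
    calc Nat.card (centralizer ({t} : Set G)) = ((centralizer ({t} : Set G) : Subgroup G) : Set G).ncard := rfl
      _ ≤ ({1, t} : Set G).ncard := Set.ncard_le_ncard hsub (Set.toFinite _)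
      _ ≤ 4 := by
        have e1 := Set.ncard_insert_le (1 : G) {t}
        have e4 := Set.ncard_singleton t
        omega

end Cfsg.Agent.H1.T
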