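import Mathlib
import Cfsg.Agent.H1.T0
import Cfsg.Agent.H1.SFMain3
import Cfsg.Agent.S0105

/-!
S0984 (simple groups of order 2520), piece C1: the Sylow 2-subgroup is dihedral or elementary abelian, and
there is one class of involutions.
-/

set_option autoImplicit false
set_option linter.unusedSectionVars false
set_option linter.unusedVariables false
set_option linter.style.haveILetI false

namespace Cfsg.Agent.H1.T.C1

open Cfsg Subgroup
open scoped commutatorElement

universe u

variable {G : Type u} [Group G] [Finite G]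

theorem not_comm [IsSimpleGroup G] (h : Nat.card G = 2520) : ¬ IsMulCommutative G := by
  intro hc
  letI : CommGroup G := { (inferInstance : Group G) with mul_comm := fun a b => hc.is_comm.comm a b }
  have hp : (Nat.card G).Prime := IsSimpleGroup.prime_card
  rw [h] at hp
  norm_num at hp

theorem card_syl (h : Nat.card G = 2520) (S : Sylow 2 G) : Nat.card (S : Subgroup G) = 8 := by
  haveI : Fact (Nat.Prime 2) := ⟨Nat.prime_two⟩
  rw [S.card_eq_multiplicity, h]
  have h1 : (2520 : ℕ).factorization 2 = 3 := by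
    have h2 : (2520 : ℕ) = 2 ^ 3 * 315 := by norm_num
    rw [h2, Nat.factorization_mul (by norm_num) (by norm_num), Nat.factorization_pow]
    simp only [Finsupp.add_apply, Finsupp.smul_apply, smul_eq_mul]
    rw [Nat.Prime.factorization_self Nat.prime_two,
      Nat.factorization_eq_zero_of_not_dvd (show ¬ 2 ∣ 315 by norm_num)]
  rw [h1]
  norm_num

/-- The part of an abelian Sylow subgroup central in its normalizer is trivial. -/
theorem no_central [IsSimpleGroup G] (h : Nat.card G = 2520) (S : Sylow 2 G)
    (hc : ∀ a ∈ (S : Subgroup G), ∀ b ∈ (S : Subgroup G), a * b = b * a) {z : G} (hz : z ∈ (S : Subgroup G))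
    (hz1 : z ≠ 1) (hn : ∀ n ∈ normalizer ((S : Subgroup G) : Set G), n * z * n⁻¹ = z) : False := by
  haveI : Fact (Nat.Prime 2) := ⟨Nat.prime_two⟩
  have hcm : IsMulCommutative (S : Subgroup G) :=
    ⟨⟨fun a b => Subtype.ext (hc a a.2 b b.2)⟩⟩
  obtain ⟨N, hN, ⟨e⟩⟩ := S0105.result S hcm
  have hmem : z ∈ (S : Subgroup G) ⊓ centralizer (normalizer ((S : Subgroup G) : Set G) : Set G) := by
    refine ⟨hz, ?_⟩
    refine mem_centralizer_iff.2 ?_
    intro n hn'
    have := hn n hn'
    calc n * z = n * z * n⁻¹ * n := by group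
      _ = z * n := by rw [this]
  rcases hN.eq_bot_or_eq_top with h1 | h1
  · have h2 : Nat.card (G ⧸ N) = Nat.card ((S : Subgroup G) ⊓ centralizer (normalizer ((S : Subgroup G) : Set G) : Set G) : Subgroup G) :=
      Nat.card_congr e.toEquiv
    have h3 : Nat.card (G ⧸ N) = 2520 := by
      have := N.card_mul_index
      rw [h1, card_bot, one_mul, h] at this
      rw [h1]; exact this
    have h4 : Nat.card ((S : Subgroup G) ⊓ centralizer (normalizer ((S : Subgroup G) : Set G) : Set G) : Subgroup G) ≤
        Nat.card (S : Subgroup G) := card_le_of_le inf_le_left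
    rw [← h2, h3, card_syl h S] at h4
    omega
  · have h2 : Nat.card (G ⧸ N) = Nat.card ((S : Subgroup G) ⊓ centralizer (normalizer ((S : Subgroup G) : Set G) : Set G) : Subgroup G) :=
      Nat.card_congr e.toEquiv
    have h3 : Nat.card (G ⧸ N) = 1 := by
      have : N.index = 1 := by rw [h1]; exact index_top
      exact this
    rw [h3] at h2
    have h5 := (Subgroup.card_eq_one.1 h2.symm)
    rw [h5, mem_bot] at hmem
    exact hz1 hmem

/-- An abelian Sylow 2-subgroup is elementary. -/
theorem elem_of_comm [IsSimpleGroup G] (h : Nat.card G = 2520) (S : Sylow 2 G)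
    (hc : ∀ a ∈ (S : Subgroup G), ∀ b ∈ (S : Subgroup G), a * b = b * a) :
    ∀ s ∈ (S : Subgroup G), s * s = 1 := by
  haveI : Fact (Nat.Prime 2) := ⟨Nat.prime_two⟩
  intro s hs
  by_contra hs1
  let f : (S : Subgroup G) →* (S : Subgroup G) :=
    { toFun := fun x => x * x
      map_one' := by simp
      map_mul' := fun x y => by
        apply Subtype.ext
        show (x : G) * y * (x * y) = x * x * (y * y)
        have := hc y y.2 x x.2
        calc (x : G) * y * (x * y) = x * (y * x) * y := by group
          _ = x * x * (y * y) := by rw [this]; group }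
  have hf : ∀ x, f x = x * x := fun x => rfl
  have hcard : Nat.card f.ker * Nat.card f.range = 8 := by
    have h1 := f.ker.card_mul_index
    rw [Subgroup.index_ker, card_syl h S] at h1
    exact h1
  have hconjS : ∀ n ∈ normalizer ((S : Subgroup G) : Set G), ∀ x ∈ (S : Subgroup G), n * x * n⁻¹ ∈ (S : Subgroup G) := by
    intro n hn x hx
    exact (mem_normalizer_iff.1 hn x).1 hx
  -- a normalised subset of order two
  have key : ∀ T : Subgroup (S : Subgroup G), Nat.card T = 2 →
      (∀ n (hn : n ∈ normalizer ((S : Subgroup G) : Set G)) (x : (S : Subgroup G)), x ∈ T →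
        (⟨n * x * n⁻¹, hconjS n hn x x.2⟩ : (S : Subgroup G)) ∈ T) → False := by
    intro T hT hTn
    haveI : Nontrivial T := by
      rw [← Finite.one_lt_card_iff_nontrivial, hT]; norm_num
    obtain ⟨z, hz⟩ := exists_ne (1 : T)
    have hzne : ((z : (S : Subgroup G)) : G) ≠ 1 := by
      intro h0
      apply hz
      apply Subtype.ext
      apply Subtype.ext
      exact h0
    have huniq : ∀ y : T, y ≠ 1 → y = z := by
      intro y hy
      by_contra hyz
      classical
      have h3 : ({1, z, y} : Finset T).card = 3 := by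
        rw [Finset.card_insert_of_notMem, Finset.card_insert_of_notMem, Finset.card_singleton]
        · rw [Finset.mem_singleton]; exact fun h => hyz h.symm
        · rw [Finset.mem_insert, Finset.mem_singleton, not_or]
          exact ⟨fun h => hz h.symm, fun h => hy h.symm⟩
      have h4 : ({1, z, y} : Finset T).card ≤ Nat.card T := by
        haveI := Fintype.ofFinite T
        rw [Nat.card_eq_fintype_card]
        exact Finset.card_le_univ _
      omega
    apply no_central h S hc z.1.2 hzne
    intro n hn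
    have h5 := huniq ⟨⟨n * z * n⁻¹, hconjS n hn z z.1.2⟩, hTn n hn z z.2⟩ (by
      intro h0
      have h6 : n * (z : G) * n⁻¹ = 1 := by
        have h7 := congrArg Subtype.val h0
        exact congrArg Subtype.val h7
      apply hzne
      have : ((z : (S : Subgroup G)) : G) = n⁻¹ * (n * z * n⁻¹) * n := by group
      rw [this, h6]; group)
    have h6 := congrArg Subtype.val h5
    exact congrArg Subtype.val h6
  have hkn : Nat.card f.ker ≠ 2 := by
    intro h2
    apply key f.ker h2
    intro n hn x hx
    rw [MonoidHom.mem_ker, hf] at hx ⊢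
    apply Subtype.ext
    show n * (x : G) * n⁻¹ * (n * x * n⁻¹) = 1
    have h3 : (x : G) * x = 1 := congrArg Subtype.val hx
    calc n * (x : G) * n⁻¹ * (n * x * n⁻¹) = n * (x * x) * n⁻¹ := by group
      _ = 1 := by rw [h3]; group
  have hrn : Nat.card f.range ≠ 2 := by
    intro h2
    apply key f.range h2
    intro n hn x hx
    obtain ⟨y, hy⟩ := hx
    refine ⟨⟨n * y * n⁻¹, hconjS n hn y y.2⟩, ?_⟩
    rw [hf] at hy ⊢
    apply Subtype.ext
    show n * (y : G) * n⁻¹ * (n * y * n⁻¹) = n * x * n⁻¹
    have h3 : (y : G) * y = x := congrArg Subtype.val hy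
    rw [← h3]; group
  have hr1 : Nat.card f.range ≠ 1 := by
    intro h2
    rw [Subgroup.card_eq_one] at h2
    have h3 : f ⟨s, hs⟩ ∈ f.range := ⟨_, rfl⟩
    rw [h2, mem_bot, hf] at h3
    exact hs1 (congrArg Subtype.val h3)
  have hk1 : Nat.card f.ker ≠ 1 := by
    intro h2
    obtain ⟨t, ht⟩ := exists_prime_orderOf_dvd_card' (G := (S : Subgroup G)) 2 (by rw [card_syl h S]; norm_num)
    rw [Subgroup.card_eq_one] at h2
    have h3 : t ∈ f.ker := by
      have h4 := pow_orderOf_eq_one t
      rw [ht, pow_two] at h4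
      rw [MonoidHom.mem_ker, hf]
      exact h4
    rw [h2, mem_bot] at h3
    rw [h3, orderOf_one] at ht
    norm_num at ht
  have hd : Nat.card f.ker ∣ 8 := ⟨_, hcard.symm⟩
  have hle : Nat.card f.ker ≤ 8 := Nat.le_of_dvd (by norm_num) hd
  generalize Nat.card f.ker = k at *
  generalize Nat.card f.range = r at *
  interval_cases k <;> omega

/-- Elementary abelian case: one class of involutions. -/
theorem conj_of_elem [IsSimpleGroup G] (h : Nat.card G = 2520) (S : Sylow 2 G)
    (he : ∀ s ∈ (S : Subgroup G), s * s = 1) (a b : G) (ha : orderOf a = 2) (hb : orderOf b = 2) : IsConj a b := by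
  haveI : Fact (Nat.Prime 2) := ⟨Nat.prime_two⟩
  have hinv : ∀ s ∈ (S : Subgroup G), s⁻¹ = s := fun s hs => inv_eq_of_mul_eq_one_right (he s hs)
  have hc : ∀ a ∈ (S : Subgroup G), ∀ b ∈ (S : Subgroup G), a * b = b * a := by
    intro a ha b hb
    have h1 := hinv _ (mul_mem ha hb)
    rw [mul_inv_rev, hinv a ha, hinv b hb] at h1
    exact h1.symm
  -- move into `S`
  have hmove : ∀ x : G, orderOf x = 2 → ∃ y ∈ (S : Subgroup G), y ≠ 1 ∧ IsConj x y := by
    intro x hx
    have hp : IsPGroup 2 (zpowers x) := IsPGroup.of_card (n := 1) (by rw [Nat.card_zpowers, hx]; norm_num)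
    obtain ⟨Q, hQ⟩ := hp.exists_le_sylow
    obtain ⟨g, hg⟩ := MulAction.exists_smul_eq G Q S
    refine ⟨g * x * g⁻¹, ?_, ?_, isConj_iff.2 ⟨g, rfl⟩⟩
    · rw [← hg]
      show g * x * g⁻¹ ∈ ((g • Q : Sylow 2 G) : Subgroup G)
      rw [Sylow.coe_subgroup_smul]
      exact ⟨x, hQ (mem_zpowers x), rfl⟩
    · intro h0
      have h1 : x = 1 := by
        have : x = g⁻¹ * (g * x * g⁻¹) * g := by group
        rw [this, h0]; group
      rw [h1, orderOf_one] at hx
      norm_num at hx
  obtain ⟨a', haS, ha1, haa⟩ := hmove a ha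
  obtain ⟨b', hbS, hb1, hbb⟩ := hmove b hb
  refine haa.trans (IsConj.trans ?_ hbb.symm)
  -- the orbits of the normalizer
  let N : Subgroup G := normalizer ((S : Subgroup G) : Set G)
  letI act : MulAction N G := MulAction.compHom G ((MulAut.conj : G →* MulAut G).comp N.subtype)
  have hact : ∀ (n : N) (x : G), n • x = n * x * (n : G)⁻¹ := fun n x => rfl
  have hSN : (S : Subgroup G) ≤ N := le_normalizer
  have hodd : ∀ x ∈ (S : Subgroup G), ¬ 2 ∣ Nat.card (MulAction.orbit N x) := by
    intro x hx h2
    have h1 : Nat.card (MulAction.orbit N x) * Nat.card (MulAction.stabilizer N x) = Nat.card N := by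
      have h0 : (MulAction.stabilizer N x).index = Nat.card (MulAction.orbit N x) := MulAction.index_stabilizer N x
      rw [← h0, mul_comm, card_mul_index]
    have h3 : (S : Subgroup G).subgroupOf N ≤ MulAction.stabilizer N x := by
      intro n hn
      rw [MulAction.mem_stabilizer_iff, hact]
      rw [mem_subgroupOf] at hn
      rw [hc n hn x hx]
      group
    have h4 : 8 ∣ Nat.card (MulAction.stabilizer N x) := by
      have h5 := card_dvd_of_le h3
      rw [Nat.card_congr (subgroupOfEquivOfLe hSN).toEquiv, card_syl h S] at h5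
      exact h5
    have h6 : 2 * 8 ∣ Nat.card N := by
      rw [← h1]; exact mul_dvd_mul h2 h4
    have h7 : Nat.card N ∣ 2520 := by rw [← h]; exact card_subgroup_dvd_card N
    have h8 := h6.trans h7
    norm_num at h8
  have hne1 : ∀ x ∈ (S : Subgroup G), x ≠ 1 → Nat.card (MulAction.orbit N x) ≠ 1 := by
    intro x hx hx1 hcard
    apply no_central h S hc hx hx1
    intro n hn
    have h1 : (MulAction.orbit N x).Subsingleton := by
      rw [← Set.ncard_le_one_iff_subsingleton]
      exact le_of_eq hcard
    exact h1 ⟨⟨n, hn⟩, rfl⟩ (MulAction.mem_orbit_self x)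
  have hpos : ∀ x : G, 0 < Nat.card (MulAction.orbit N x) := by
    intro x
    haveI : Nonempty (MulAction.orbit N x) := ⟨⟨x, MulAction.mem_orbit_self x⟩⟩
    exact Nat.card_pos
  have hthree : ∀ x ∈ (S : Subgroup G), x ≠ 1 → 3 ≤ Nat.card (MulAction.orbit N x) := by
    intro x hx hx1
    have h1 := hodd x hx
    have h2 := hne1 x hx hx1
    have h3 := hpos x
    omega
  have hsub : ∀ x ∈ (S : Subgroup G), x ≠ 1 → MulAction.orbit N x ⊆ ((S : Subgroup G) : Set G) \ {1} := by
    rintro x hx hx1 y ⟨n, rfl⟩
    have h1 : n • x = n * x * (n : G)⁻¹ := rfl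
    refine ⟨?_, ?_⟩
    · show n * x * (n : G)⁻¹ ∈ (S : Subgroup G)
      exact (mem_normalizer_iff.1 n.2 x).1 hx
    · intro h0
      have h2 : (n : G) * x * (n : G)⁻¹ = 1 := h0
      apply hx1
      have : x = (n : G)⁻¹ * (n * x * (n : G)⁻¹) * n := by group
      rw [this, h2]; group
  have h7 : (((S : Subgroup G) : Set G) \ {1}).ncard = 7 := by
    rw [Set.ncard_sdiff_singleton_of_mem (one_mem _)]
    have : (((S : Subgroup G) : Set G)).ncard = 8 := card_syl h S
    rw [this]
  by_contra hcon
  have hdis : ∀ x y : G, y ∉ MulAction.orbit N x → Disjoint (MulAction.orbit N x) (MulAction.orbit N y) := by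
    intro x y hxy
    rcases MulAction.orbit.eq_or_disjoint x y (G := N) with h1 | h1
    · exfalso; apply hxy; rw [h1]; exact MulAction.mem_orbit_self y
    · exact h1
  have hab : b' ∉ MulAction.orbit N a' := by
    rintro ⟨n, hn⟩
    apply hcon
    exact isConj_iff.2 ⟨n, hn⟩
  have hd1 := hdis a' b' hab
  have hfin : ∀ x : G, (MulAction.orbit N x).Finite := fun x => Set.toFinite _
  have hU : (MulAction.orbit N a' ∪ MulAction.orbit N b').ncard =
      Nat.card (MulAction.orbit N a') + Nat.card (MulAction.orbit N b') :=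
    Set.ncard_union_eq hd1 (hfin _) (hfin _)
  have hUs : MulAction.orbit N a' ∪ MulAction.orbit N b' ⊆ ((S : Subgroup G) : Set G) \ {1} :=
    Set.union_subset (hsub a' haS ha1) (hsub b' hbS hb1)
  have hle := Set.ncard_le_ncard hUs (Set.toFinite _)
  have hne : MulAction.orbit N a' ∪ MulAction.orbit N b' ≠ ((S : Subgroup G) : Set G) \ {1} := by
    intro h0
    rw [h0, h7] at hU
    have h1 := hodd a' haS
    have h2 := hodd b' hbS
    omega
  obtain ⟨c, hcS, hcU⟩ := Set.exists_of_ssubset (Set.ssubset_iff_subset_ne.2 ⟨hUs, hne⟩)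
  have hcS' : c ∈ (S : Subgroup G) := hcS.1
  have hc1 : c ≠ 1 := hcS.2
  have hca : c ∉ MulAction.orbit N a' := fun h => hcU (Or.inl h)
  have hcb : c ∉ MulAction.orbit N b' := fun h => hcU (Or.inr h)
  have hd2 : Disjoint (MulAction.orbit N a' ∪ MulAction.orbit N b') (MulAction.orbit N c) :=
    Set.disjoint_union_left.2 ⟨hdis a' c hca, hdis b' c hcb⟩
  have hV : ((MulAction.orbit N a' ∪ MulAction.orbit N b') ∪ MulAction.orbit N c).ncard =
      (MulAction.orbit N a' ∪ MulAction.orbit N b').ncard + Nat.card (MulAction.orbit N c) :=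
    Set.ncard_union_eq hd2 ((hfin _).union (hfin _)) (hfin _)
  have hle2 := Set.ncard_le_ncard (Set.union_subset hUs (hsub c hcS' hc1)) (Set.toFinite _)
  rw [hV, hU, h7] at hle2
  have h1 := hthree a' haS ha1
  have h2 := hthree b' hbS hb1
  have h3 := hthree c hcS' hc1
  omega

/-- A nonabelian group of order 8 has derived subgroup of index 4. -/
theorem index_commutator {P : Type*} [Group P] [Finite P] (h8 : Nat.card P = 8)
    (hnc : ¬ ∀ a b : P, a * b = b * a) : (_root_.commutator P).index = 4 := by
  haveI : Fact (Nat.Prime 2) := ⟨Nat.prime_two⟩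
  obtain ⟨k, hk, hZ⟩ := IsPGroup.card_center_eq_prime_pow (p := 2) (n := 3) (G := P) (by rw [h8]; norm_num)
    (by norm_num)
  have hmul := (center P).card_mul_index
  rw [h8] at hmul
  have hk3 : k ≤ 3 := by
    by_contra h
    have h1 := Nat.pow_le_pow_right (show 0 < 2 by norm_num) (show 4 ≤ k by omega)
    rw [← hZ] at h1
    have h2 : Nat.card (center P) ∣ 8 := ⟨_, hmul.symm⟩
    have := Nat.le_of_dvd (by norm_num) h2
    omega
  have hcyc : ∀ (i : ℕ), (center P).index = i → (i = 1 ∨ i = 2) → False := by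
    intro i hi hi2
    apply hnc
    have : IsCyclic (P ⧸ center P) := by
      rcases hi2 with rfl | rfl
      · have h1 : Nat.card (P ⧸ center P) = 1 := hi
        haveI := (Nat.card_eq_one_iff_unique.1 h1).1
        infer_instance
      · have h1 : Nat.card (P ⧸ center P) = 2 := hi
        exact isCyclic_of_prime_card h1
    intro a b
    exact commutative_of_cyclic_center_quotient (QuotientGroup.mk' (center P)) (by rw [QuotientGroup.ker_mk']) a b
  have hidx : (center P).index = 4 ∧ Nat.card (center P) = 2 := by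
    rw [hZ] at hmul ⊢
    interval_cases k
    · omega
    · exfalso; exact hcyc _ rfl (by omega)
    · exfalso; exact hcyc _ rfl (by omega)
  have hq : ∀ a b : P ⧸ center P, a * b = b * a := by
    have h1 : Nat.card (P ⧸ center P) = 2 ^ 2 := hidx.1
    exact (IsPGroup.isMulCommutative_of_card_eq_prime_sq h1).is_comm.comm
  have hle : _root_.commutator P ≤ center P := by
    rw [_root_.commutator_def, Subgroup.commutator_le]
    intro a _ b _
    have h1 : ((⁅a, b⁆ : P) : P ⧸ center P) = 1 := by
      have h2 : ((⁅a, b⁆ : P) : P ⧸ center P) = ⁅(a : P ⧸ center P), (b : P ⧸ center P)⁆ := rfl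
      rw [h2, commutatorElement_eq_one_iff_mul_comm]
      exact hq _ _
    exact (QuotientGroup.eq_one_iff _).1 h1
  have hd : Nat.card (_root_.commutator P) ∣ 2 := by
    rw [← hidx.2]; exact card_dvd_of_le hle
  have hne : Nat.card (_root_.commutator P) ≠ 1 := by
    intro h1
    rw [Subgroup.card_eq_one] at h1
    apply hnc
    intro a b
    have h2 : ⁅a, b⁆ ∈ _root_.commutator P := commutator_mem_commutator (mem_top a) (mem_top b)
    rw [h1, mem_bot, commutatorElement_eq_one_iff_mul_comm] at h2
    exact h2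
  have h2 : Nat.card (_root_.commutator P) = 2 := by
    rcases (Nat.dvd_prime Nat.prime_two).1 hd with h | h
    · exact absurd h hne
    · exact h
  have h3 := (_root_.commutator P).card_mul_index
  rw [h2, h8] at h3
  omega

end Cfsg.Agent.H1.T.C1

namespace Cfsg.Agent.H1.T

open Cfsg Subgroup Cfsg.Agent.BR
open Cfsg.Agent.CharBase (oneIrr)

universe u

variable {G : Type u} [Group G] [Finite G]

theorem sylow2 [IsSimpleGroup G] (h : Nat.card G = 2520) (S : Sylow 2 G) :
    (∀ a b : G, orderOf a = 2 → orderOf b = 2 → IsConj a b) ∧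
      (Nonempty (S ≃* DihedralGroup 4) ∨ ∀ s ∈ S, s * s = 1) := by
  haveI : Fact (Nat.Prime 2) := ⟨Nat.prime_two⟩
  by_cases hc : ∀ a ∈ (S : Subgroup G), ∀ b ∈ (S : Subgroup G), a * b = b * a
  · have he := C1.elem_of_comm h S hc
    exact ⟨C1.conj_of_elem h S he, Or.inr he⟩
  · have hna := C1.not_comm h
    have h8 := C1.card_syl h S
    have hnc : ¬ ∀ a b : (S : Subgroup G), a * b = b * a := by
      intro h1
      apply hc
      intro a ha b hb
      exact congrArg Subtype.val (h1 ⟨a, ha⟩ ⟨b, hb⟩)
    have hidx := C1.index_commutator h8 hnc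
    obtain ⟨a, b, ha, hb, hcases⟩ := MaxClass.structure_of_index_commutator (n := 3) le_rfl
      (by rw [h8]; norm_num) hidx
    rcases hcases with ⟨hb2, hab⟩ | ⟨hb2, hab⟩ | ⟨hn4, hb2, hab⟩
    · obtain ⟨e⟩ := MaxClass.nonempty_mulEquiv_dihedral (m := 4) (by norm_num) (by rw [ha]; norm_num) hb hb2 hab
        (by rw [h8])
      obtain ⟨r, s, hd⟩ := DihSyl.exists_dihData S.2 (by norm_num) e
      exact ⟨fun x y hx hy => DihSyl.isConj_of_no_index_two hd (H1.SF.no_index_two hna) hx hy, Or.inl ⟨e⟩⟩
    · exfalso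
      obtain ⟨e⟩ := MaxClass.nonempty_mulEquiv_quaternion (m := 2 ^ (0 + 1)) (by norm_num)
        (by rw [ha]; norm_num) hb (by rw [hb2]) hab (by rw [h8]; norm_num)
      exact H1.SF.no_quaternion hna S e (by rw [h]; norm_num)
    · omega

end Cfsg.Agent.H1.T
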