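import Cfsg.Agent.H1T.GV

/-! # S0984, piece C2 (helper89) -/

set_option autoImplicit false

namespace Cfsg.Agent.H1.T

open Cfsg Subgroup Cfsg.Agent.BR
open Cfsg.Agent.CharBase (oneIrr)

universe u

variable {G : Type u} [Group G] [Finite G]

omit [Finite G] in
theorem sum_const_off {P : Subgroup G} [Fintype P] (f : G → ℂ) (a : ℂ) (h : ∀ s : P, s ≠ 1 → f s = a) :
    ∑ s : P, f s = f 1 + ((Nat.card P : ℂ) - 1) * a := by
  classical
  have h0 : ∑ s : P, f s = ∑ s : P, ((if s = 1 then (f 1 - a) else 0) + a) := by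
    apply Finset.sum_congr rfl
    intro s _
    split_ifs with hs
    · rw [hs, Subgroup.coe_one]; ring
    · rw [h s hs, zero_add]
  rw [h0, Finset.sum_add_distrib, Finset.sum_ite_eq' Finset.univ (1 : P) (fun _ => f 1 - a),
    if_pos (Finset.mem_univ _), Finset.sum_const, Finset.card_univ, ← Nat.card_eq_fintype_card,
    nsmul_eq_mul]
  ring

theorem not_elem (h : Nat.card G = 2520) (C : Chr G) (S : Sylow 2 G)
    (hc : ∀ a b : G, orderOf a = 2 → orderOf b = 2 → IsConj a b) (hS : ∀ s ∈ S, s * s = 1) : False := by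
  classical
  have : Fact (Nat.Prime 2) := ⟨Nat.prime_two⟩
  have : Fintype S := Fintype.ofFinite _
  have hcard : Nat.card S = 8 := by
    have h1 := S.card_eq_multiplicity
    rw [h] at h1
    have h2 : (2520 : ℕ).factorization 2 = 3 := by
      have h3 : (2520 : ℕ) = 2 ^ 3 * 315 := by norm_num
      rw [h3, Nat.factorization_mul (by norm_num) (by norm_num), Finsupp.add_apply,
        Nat.Prime.factorization_pow Nat.prime_two, Finsupp.single_eq_same,
        Nat.factorization_eq_zero_of_not_dvd (by norm_num)]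
    rw [h2] at h1
    exact h1
  have hord : ∀ s : S, s ≠ 1 → orderOf (s : G) = 2 := by
    intro s hs
    refine orderOf_eq_prime ?_ (fun h => hs (Subtype.ext h))
    rw [sq]; exact hS s s.2
  obtain ⟨t, ht⟩ : ∃ t : S, t ≠ 1 := by
    have : Nontrivial S := by
      rw [← Finite.one_lt_card_iff_nontrivial, hcard]; norm_num
    exact exists_ne 1
  obtain ⟨a, b, c, ha, hb, hc1, hc2, he⟩ := C.vals t (by rw [hord t ht]; norm_num)
  have hinv := C.invol t (hord t ht) a c ha hc1
  have hval : ∀ s : S, s ≠ 1 → (C.χ : G → ℂ) s = a := by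
    intro s hs
    rw [← ha]
    exact CharBase.classFun_eq_of_isConj (CharBase.isClassFunction_of_isCharacter (CharBase.irr_isCharacter C.χ))
      (hc _ _ (hord s hs) (hord t ht))
  obtain ⟨m, hm⟩ := H79.sum_subgroup_eq (CharBase.irr_isCharacter C.χ) (S : Subgroup G)
  have h1 := sum_const_off (P := (S : Subgroup G)) (C.χ : G → ℂ) (a : ℂ) hval
  have h2 : (Nat.card (S : Subgroup G) : ℂ) = 8 := by
    have : Nat.card (S : Subgroup G) = 8 := hcard
    rw [this]; norm_num
  have h3 : (6 : ℂ) + 7 * a = 8 * m := by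
    rw [hm, h2, dg_eq, C.dχ] at h1
    push_cast at h1
    linear_combination -h1
  have h4 : (6 : ℤ) + 7 * a = 8 * m := by exact_mod_cast h3
  rcases hinv with ⟨rfl, rfl⟩ | ⟨rfl, rfl⟩ | ⟨rfl, rfl⟩ <;> omega

end Cfsg.Agent.H1.T
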