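import Cfsg.Agent.H1T.GV
import Cfsg.Agent.H76.Congr
import Cfsg.Agent.CharBase.Column

/-! # S0984, piece D1 (helper89) -/

set_option autoImplicit false

namespace Cfsg.Agent.H1.T

open Cfsg Subgroup Cfsg.Agent.BR
open Cfsg.Agent.CharBase (oneIrr)
open scoped ComplexConjugate

universe u

variable {G : Type u} [Group G] [Finite G]

/-- integral character values: congruence modulo `p` for the `p`-part -/
theorem congr_int {p : ℕ} (hp : p.Prime) {χ : G → ℂ} (hχ : IsCharacter G χ) {x y : G} (hxy : Commute x y)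
    (hx : orderOf x = p) (hy : ¬ p ∣ orderOf y) {v w : ℤ} (hv : χ (x * y) = v) (hw : χ y = w) :
    (p : ℤ) ∣ v - w := by
  obtain ⟨M, hM⟩ := H76.exists_isPModular hp
  have := Blk.isPrime_of_isPModular hM
  have h1 := H76.mli_char_sub hM hχ hxy ⟨1, by rw [hx, pow_one]⟩ hy
  rw [hv, hw, ← Int.cast_sub] at h1
  exact (Blk.mli_intCast_iff hM _).1 h1

theorem sq_le_of_int {χ : G → ℂ} (hχ : IsCharacter G χ) {g : G} {v : ℤ} (hv : χ g = v) {d : ℕ}
    (hd : charDegree χ = d) : v ^ 2 ≤ (d : ℤ) ^ 2 := by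
  have h1 := H79.norm_le_degree hχ g
  rw [hv, hd] at h1
  have h2 : ‖(v : ℂ)‖ = |(v : ℝ)| := by
    rw [← Complex.ofReal_intCast, Complex.norm_real, Real.norm_eq_abs]
  rw [h2] at h1
  have h3 : |v| ≤ (d : ℤ) := by exact_mod_cast h1
  exact sq_le_sq' (by have := neg_abs_le v; linarith) (le_trans (le_abs_self v) h3)

theorem dg_oneIrr : dg (oneIrr G) = 1 := by
  have h5 := dg_eq (oneIrr G)
  have h6 : ((oneIrr G : IrrCharacter G) : G → ℂ) 1 = 1 := rfl
  rw [h6] at h5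
  exact_mod_cast h5.symm

/-- the column of `g` -/
theorem col5 (C : Chr G) (g : G) {a b c : ℤ} (ha : (C.χ : G → ℂ) g = a) (hb : (C.θ : G → ℂ) g = b)
    (hc : (C.ψ : G → ℂ) g = c) (hc' : (C.ψ' : G → ℂ) g = c) :
    1 + a ^ 2 + b ^ 2 + 2 * c ^ 2 ≤ (Nat.card (centralizer ({g} : Set G)) : ℤ) := by
  classical
  have : Fintype (IrrCharacter G) := Fintype.ofFinite _
  have h1 := CharBase.column_orthogonality_of_isConj (IsConj.refl g)
  have h2 : ((∑ φ : IrrCharacter G, Complex.normSq ((φ : G → ℂ) g) : ℝ) : ℂ) =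
      ((Nat.card (centralizer ({g} : Set G)) : ℝ) : ℂ) := by
    push_cast
    rw [← h1]
    apply Finset.sum_congr rfl
    intro φ _
    rw [Complex.normSq_eq_conj_mul_self, mul_comm]
  have h3 : ∑ φ : IrrCharacter G, Complex.normSq ((φ : G → ℂ) g) =
      (Nat.card (centralizer ({g} : Set G)) : ℝ) := by exact_mod_cast h2
  have d1 := dg_oneIrr (G := G)
  have e1 : oneIrr G ≠ C.χ := fun h => by rw [h, C.dχ] at d1; omega
  have e2 : oneIrr G ≠ C.θ := fun h => by rw [h, C.dθ] at d1; omega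
  have e3 : oneIrr G ≠ C.ψ := fun h => by rw [h, C.dψ] at d1; omega
  have e4 : oneIrr G ≠ C.ψ' := fun h => by rw [h, C.dψ'] at d1; omega
  have e5 : C.χ ≠ C.θ := fun h => by have := C.dχ; rw [h, C.dθ] at this; omega
  have e6 : C.χ ≠ C.ψ := fun h => by have := C.dχ; rw [h, C.dψ] at this; omega
  have e7 : C.χ ≠ C.ψ' := fun h => by have := C.dχ; rw [h, C.dψ'] at this; omega
  have e8 : C.θ ≠ C.ψ := fun h => by have := C.dθ; rw [h, C.dψ] at this; omega
  have e9 : C.θ ≠ C.ψ' := fun h => by have := C.dθ; rw [h, C.dψ'] at this; omega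
  have h4 : ∑ φ ∈ ({oneIrr G, C.χ, C.θ, C.ψ, C.ψ'} : Finset (IrrCharacter G)), Complex.normSq ((φ : G → ℂ) g) ≤
      ∑ φ : IrrCharacter G, Complex.normSq ((φ : G → ℂ) g) :=
    Finset.sum_le_sum_of_subset_of_nonneg (Finset.subset_univ _) (fun φ _ _ => Complex.normSq_nonneg _)
  rw [Finset.sum_insert (by simp [e1, e2, e3, e4]), Finset.sum_insert (by simp [e5, e6, e7]),
    Finset.sum_insert (by simp [e8, e9]), Finset.sum_insert (by simp [C.hψ]), Finset.sum_singleton,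
    ha, hb, hc, hc', h3] at h4
  have h5 : ((oneIrr G : IrrCharacter G) : G → ℂ) g = 1 := rfl
  have h6 : ∀ v : ℤ, Complex.normSq (v : ℂ) = (v : ℝ) ^ 2 := by
    intro v
    rw [← Complex.ofReal_intCast, Complex.normSq_ofReal, sq]
  rw [h5, h6, h6, h6, map_one] at h4
  have h7 : ((1 + a ^ 2 + b ^ 2 + 2 * c ^ 2 : ℤ) : ℝ) ≤ ((Nat.card (centralizer ({g} : Set G)) : ℤ) : ℝ) := by
    push_cast
    linarith
  exact_mod_cast h7

/-- the values at the elements of order 5 with a small centralizer -/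
theorem vals5 (C : Chr G) (x : G) (hx : orderOf x = 5)
    (hle : Nat.card (centralizer ({x} : Set G)) ≤ 60) :
    (C.χ : G → ℂ) x = (1 : ℤ) ∧ (C.θ : G → ℂ) x = (0 : ℤ) ∧ (C.ψ : G → ℂ) x = (0 : ℤ) ∧
      (C.ψ' : G → ℂ) x = (0 : ℤ) := by
  obtain ⟨a, b, c, ha, hb, hc, hc', he⟩ := C.vals x (by rw [hx]; norm_num)
  have key : ∀ (φ : IrrCharacter G) (v : ℤ), (φ : G → ℂ) x = v → ∃ m : ℕ, (dg φ : ℤ) + 4 * v = 5 * m := by
    intro φ v hv
    have hφ := CharBase.irr_isCharacter φ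
    obtain ⟨m, hm⟩ := sum_powers hφ x
    rw [hx] at hm
    have e0 : (φ : G → ℂ) (x ^ 0) = (dg φ : ℂ) := by rw [pow_zero, dg_eq]
    have e1 : (φ : G → ℂ) (x ^ 1) = v := by rw [pow_one, hv]
    have e2 : (φ : G → ℂ) (x ^ 2) = v := val_pow hφ hv (by rw [hx]; decide)
    have e3 : (φ : G → ℂ) (x ^ 3) = v := val_pow hφ hv (by rw [hx]; decide)
    have e4 : (φ : G → ℂ) (x ^ 4) = v := val_pow hφ hv (by rw [hx]; decide)
    simp only [Finset.sum_range_succ, Finset.sum_range_zero, e0, e1, e2, e3, e4] at hm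
    refine ⟨m, ?_⟩
    have : (((dg φ : ℤ) + 4 * v : ℤ) : ℂ) = ((5 * m : ℤ) : ℂ) := by
      push_cast
      push_cast at hm
      linear_combination hm
    exact_mod_cast this
  obtain ⟨m1, h1⟩ := key C.χ a ha
  obtain ⟨m2, h2⟩ := key C.θ b hb
  rw [C.dχ] at h1
  rw [C.dθ] at h2
  have h3 := col5 C x ha hb hc hc'
  have h4 := sq_le_of_int (CharBase.irr_isCharacter C.χ) ha (d := 6) C.dχ
  push_cast at h4
  have h5 : (Nat.card (centralizer ({x} : Set G)) : ℤ) ≤ 60 := by exact_mod_cast hle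
  have h6 : 1 + a ^ 2 + b ^ 2 + 2 * c ^ 2 ≤ 60 := le_trans h3 h5
  have a1 : -1 ≤ a := by push_cast at h1; omega
  have a2 : a ≤ 6 := by nlinarith
  have hb2 : b ≤ 7 := by nlinarith
  have hb3 : -7 ≤ b := by nlinarith
  have hc : c = 1 + b - a := by linarith
  subst hc
  push_cast at h1 h2
  have ha' : a = 1 ∨ a = 6 := by omega
  have hb' : b = 5 ∨ b = 0 ∨ b = -5 := by omega
  have hfin : a = 1 ∧ b = 0 := by
    rcases ha' with rfl | rfl <;> rcases hb' with rfl | rfl | rfl <;>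
      first | exact ⟨rfl, rfl⟩ | (exfalso; revert h6; norm_num)
  obtain ⟨rfl, rfl⟩ := hfin
  refine ⟨ha, hb, ?_, ?_⟩
  · rw [‹(C.ψ : G → ℂ) x = _›]; norm_num
  · rw [hc']; norm_num

theorem c5a (_h : Nat.card G = 2520) (C : Chr G) (x t : G) (hx : orderOf x = 5) (ht : orderOf t = 2)
    (hxt : x * t = t * x) (hle : Nat.card (centralizer ({x} : Set G)) ≤ 60) :
    30 < Nat.card (centralizer ({x * t} : Set G)) := by
  obtain ⟨hx1, hx2, hx3, hx4⟩ := vals5 C x hx hle
  obtain ⟨a, b, c, ha, hb, hc, hc', he⟩ := C.vals t (by rw [ht]; norm_num)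
  have hinv := C.invol t ht a c ha hc
  have hcom : Commute x t := hxt
  have hord : orderOf (x * t) = 10 := by
    rw [hcom.orderOf_mul_eq_mul_orderOf_of_coprime (by rw [hx, ht]; decide), hx, ht]
  obtain ⟨B, T, U, hB, hT, hU, hU', hE⟩ := C.vals (x * t) (by rw [hord]; norm_num)
  have n5 : ¬ 5 ∣ orderOf t := by rw [ht]; norm_num
  have n2 : ¬ 2 ∣ orderOf x := by rw [hx]; norm_num
  have b5 := congr_int (p := 5) (by norm_num) (CharBase.irr_isCharacter C.χ) hcom hx n5 hB ha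
  have b2 := congr_int (p := 2) Nat.prime_two (CharBase.irr_isCharacter C.χ) hcom.symm ht n2
    (by rw [← hxt]; exact hB) hx1
  have t5 := congr_int (p := 5) (by norm_num) (CharBase.irr_isCharacter C.θ) hcom hx n5 hT hb
  have t2 := congr_int (p := 2) Nat.prime_two (CharBase.irr_isCharacter C.θ) hcom.symm ht n2
    (by rw [← hxt]; exact hT) hx2
  have hBn := sq_le_of_int (CharBase.irr_isCharacter C.χ) hB (d := 6) C.dχ
  push_cast at hBn b5 b2 t5 t2
  have hcol := col5 C (x * t) hB hT hU hU'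
  have hB1 : B ≤ 6 := by nlinarith
  have hB2 : -6 ≤ B := by nlinarith
  have hUe : U = T + 1 - B := by linarith
  subst hUe
  by_contra hcon
  have hcon' : (Nat.card (centralizer ({x * t} : Set G)) : ℤ) ≤ 30 := by exact_mod_cast (not_lt.1 hcon)
  have h6 : 1 + B ^ 2 + T ^ 2 + 2 * (T + 1 - B) ^ 2 ≤ 30 := le_trans hcol hcon'
  have hT1 : T ≤ 5 := by nlinarith
  have hT2 : -5 ≤ T := by nlinarith
  have hbe : b = a + c - 1 := by linarith
  subst hbe
  rcases hinv with ⟨rfl, rfl⟩ | ⟨rfl, rfl⟩ | ⟨rfl, rfl⟩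
  · have hB' : B = -3 := by omega
    subst hB'
    have hT' : T = 4 := by omega
    subst hT'
    norm_num at h6
  · have hB' : B = -3 := by omega
    subst hB'
    have hT' : T = 2 := by omega
    subst hT'
    norm_num at h6
  · have hB' : B = 3 := by omega
    subst hB'
    have hT' : T = 4 := by omega
    subst hT'
    norm_num at h6

end Cfsg.Agent.H1.T
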