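import Cfsg.Agent.H1.T0
import Cfsg.Agent.Char.Galois
import Cfsg.Agent.H79.Count

/-!
S0984: general facts on integral values of characters (helper64 for helper1)
-/

set_option autoImplicit false

namespace Cfsg.Agent.H1.T

open Cfsg Subgroup Cfsg.Agent.BR
open Cfsg.Agent.CharBase (oneIrr)

universe u

variable {G : Type u} [Group G] [Finite G]

/-- an integral value is taken at all generators -/
theorem val_pow {χ : G → ℂ} (hχ : IsCharacter G χ) {g : G} {v : ℤ} (hv : χ g = v) {k : ℕ} (hk : k.Coprime (orderOf g)) :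
    χ (g ^ k) = v := by
  obtain ⟨σ, hσ⟩ := Char.exists_aut_pow (orderOf_pos g).ne' hk
  have h1 := Char.map_char_eq hχ g dvd_rfl σ hσ
  rw [← h1, hv, map_intCast]

theorem int_of_rational {χ : G → ℂ} (hχ : IsCharacter G χ) {g : G}
    (h : ∀ k : ℕ, k.Coprime (orderOf g) → IsConj g (g ^ k)) : ∃ v : ℤ, χ g = v := by
  refine Char.exists_int_of_fixed (n := Nat.card G) Nat.card_pos.ne' _ (Char.char_mem_closure hχ g dvd_rfl) ?_
  intro k σ hk hσ
  rw [Char.map_char_eq hχ g (orderOf_dvd_natCard g) σ hσ]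
  have h1 := h k (Nat.Coprime.coprime_dvd_right (orderOf_dvd_natCard g) hk)
  exact (CharBase.classFun_eq_of_isConj (CharBase.isClassFunction_of_isCharacter hχ) h1).symm

theorem sum_powers {χ : G → ℂ} (hχ : IsCharacter G χ) (g : G) :
    ∃ m : ℕ, ∑ i ∈ Finset.range (orderOf g), χ (g ^ i) = (orderOf g : ℂ) * m := by
  classical
  haveI : Fintype (zpowers g) := Fintype.ofFinite _
  obtain ⟨m, hm⟩ := H79.sum_subgroup_eq hχ (zpowers g)
  refine ⟨m, ?_⟩
  rw [Nat.card_zpowers] at hm
  rw [← hm, Finset.sum_range]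
  exact Fintype.sum_equiv (finEquivZPowers (isOfFinOrder_of_finite g)) _ _ (fun i => by
    rw [finEquivZPowers_apply])

end Cfsg.Agent.H1.T
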