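import Mathlib

/-!
# S0984: common facts for the pieces D3 and F2 (owner: helper41)
-/

set_option autoImplicit false

namespace Cfsg.Agent.H1.T.P41

open Subgroup

universe u
variable {G : Type u} [Group G] [Finite G]

theorem fact2520 : (2520 : ℕ).factorization 2 = 3 := by
  have h1 : (2520 : ℕ) = 2 ^ 3 * 315 := by norm_num
  rw [h1, Nat.factorization_mul (by norm_num) (by norm_num)]
  rw [Finsupp.add_apply, Nat.Prime.factorization_pow Nat.prime_two, Finsupp.single_eq_same,
    Nat.factorization_eq_zero_of_not_dvd (by norm_num)]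

theorem fact2520_3 : (2520 : ℕ).factorization 3 = 2 := by
  have h1 : (2520 : ℕ) = 3 ^ 2 * 280 := by norm_num
  rw [h1, Nat.factorization_mul (by norm_num) (by norm_num)]
  rw [Finsupp.add_apply, Nat.Prime.factorization_pow Nat.prime_three, Finsupp.single_eq_same,
    Nat.factorization_eq_zero_of_not_dvd (by norm_num)]

theorem exists_sylow_le (h : Nat.card G = 2520) (N : Subgroup G) (hN : 8 ∣ Nat.card N) :
    ∃ T : Sylow 2 G, (T : Subgroup G) ≤ N ∧ Nat.card T = 8 := by
  obtain ⟨K, hK⟩ := Sylow.exists_subgroup_card_pow_prime (G := N) 2 (n := 3) (by simpa using hN)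
  have h1 : Nat.card (K.map N.subtype) = 8 := by
    rw [Nat.card_congr (K.equivMapOfInjective N.subtype N.subtype_injective).toEquiv.symm, hK]
    norm_num
  refine ⟨Sylow.ofCard (K.map N.subtype) (by rw [h1, h, fact2520]; norm_num), ?_, ?_⟩
  · exact Subgroup.map_subtype_le K
  · exact h1

/-- all Sylow 2-subgroups are isomorphic -/
theorem equiv_dih (S : Sylow 2 G) (e : S ≃* DihedralGroup 4) (T : Sylow 2 G) :
    Nonempty (T ≃* DihedralGroup 4) := ⟨(Sylow.equiv T S).trans e⟩

theorem dih_a : ∀ s v : DihedralGroup 4, s * s ≠ 1 → v * v ≠ 1 → s = v ∨ s = v⁻¹ := by decide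

theorem dih_b : ∀ c : DihedralGroup 4, (∀ g : DihedralGroup 4, c * g = g * c) → c ≠ 1 →
    c = DihedralGroup.r 1 * DihedralGroup.r 1 := by decide

theorem dih_c : ∀ g : DihedralGroup 4, (DihedralGroup.r 1 * DihedralGroup.r 1) * g =
    g * (DihedralGroup.r 1 * DihedralGroup.r 1) := by decide

theorem dih_d : ∃ t s : DihedralGroup 4, t ≠ 1 ∧ s ≠ 1 ∧ t ≠ s ∧ t * t = 1 ∧ s * s = 1 ∧
    t * s = s * t := by decide

/-- number of conjugates times order of the centralizer -/
theorem card_isConj (z : G) : Nat.card {g : G // IsConj z g} * Nat.card (centralizer ({z} : Set G)) =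
    Nat.card G := by
  have h1 : Nat.card {g : G // IsConj z g} = (centralizer ({z} : Set G)).index := by
    have h2 : {g : G | IsConj z g} = MulAction.orbit (ConjAct G) z := by
      ext g
      rw [Set.mem_setOf_eq, ConjAct.mem_orbit_conjAct]
      exact isConj_comm
    have h3 : Nat.card {g : G // IsConj z g} = Nat.card (MulAction.orbit (ConjAct G) z) := by
      rw [← h2]; rfl
    rw [h3, Nat.card_congr (MulAction.orbitEquivQuotientStabilizer (ConjAct G) z),
      ← Subgroup.index_eq_card, ConjAct.stabilizer_eq_centralizer]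
    rfl
  rw [h1, mul_comm, Subgroup.card_mul_index]

end Cfsg.Agent.H1.T.P41
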